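import Cfsg.Agent.Lib.TwelveType.Model
import Cfsg.Agent.Lib.Involution.Basic

/-
A Sylow 2-subgroup labelled by the model.

* `SF` : the labelling, with the twisted labellings `twPR`, `tw45`
* `SF.ext_sylow` : an extremal involution
* `SF.exists_onto` : conjugation between centralisers of extremal involutions
-/

set_option autoImplicit false
set_option synthInstance.maxSize 4096

open Subgroup

namespace Cfsg.Agent.TwelveType

variable {G : Type*} [Group G]

/-- A labelling of a Sylow 2-subgroup. -/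
structure SF (S : Sylow 2 G) where
  φ : El → G
  mem : ∀ a, φ a ∈ S
  surj : ∀ s ∈ S, ∃ a, φ a = s
  inj : Function.Injective φ
  mul : ∀ a b, φ a * φ b = φ (sm a b)

namespace SF

variable {S : Sylow 2 G} (F : SF S)

/-- The labelling twisted by the exchange of `p` and `r`. -/
def twPR : SF S where
  φ a := F.φ (swapPR a)
  mem a := F.mem _
  surj s hs := by
    obtain ⟨a, rfl⟩ := F.surj s hs
    exact ⟨swapPR a, congrArg F.φ (swapPR_spec a (mem_els a)).1⟩
  inj a b h := by
    have := congrArg swapPR (F.inj h)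
    rwa [(swapPR_spec a (mem_els a)).1, (swapPR_spec b (mem_els b)).1] at this
  mul a b := by
    show F.φ (swapPR a) * F.φ (swapPR b) = F.φ (swapPR (sm a b))
    rw [F.mul, swapPR_mul a (mem_els a) b (mem_els b)]

/-- The labelling twisted by the exchange of `four` and `five`. -/
def tw45 : SF S where
  φ a := F.φ (swap45 a)
  mem a := F.mem _
  surj s hs := by
    obtain ⟨a, rfl⟩ := F.surj s hs
    exact ⟨swap45 a, congrArg F.φ (swap45_spec a (mem_els a)).1⟩
  inj a b h := by
    have := congrArg swap45 (F.inj h)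
    rwa [(swap45_spec a (mem_els a)).1, (swap45_spec b (mem_els b)).1] at this
  mul a b := by
    show F.φ (swap45 a) * F.φ (swap45 b) = F.φ (swap45 (sm a b))
    rw [F.mul, swap45_mul a (mem_els a) b (mem_els b)]

theorem sm_idem {a : El} (h : sm a a = a) : a = oneE := by
  have : ∀ a ∈ els, sm a a = a → a = oneE := by decide +kernel
  exact this a (mem_els a) h

theorem map_one : F.φ oneE = 1 := by
  have h := F.mul oneE oneE
  rw [show sm oneE oneE = oneE by decide +kernel] at h
  exact mul_eq_left.1 h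

theorem eq_one_iff {a : El} : F.φ a = 1 ↔ a = oneE := by rw [← F.map_one, F.inj.eq_iff]

theorem map_inv (a : El) : (F.φ a)⁻¹ = F.φ (einv a) :=
  inv_eq_of_mul_eq_one_right (by rw [F.mul, (einv_spec a (mem_els a)).1, F.map_one])

theorem conj (g a : El) : F.φ g * F.φ a * (F.φ g)⁻¹ = F.φ (cjE g a) := by
  rw [F.map_inv, F.mul, F.mul]
  rfl

theorem commute_iff {a b : El} : Commute (F.φ a) (F.φ b) ↔ sm a b = sm b a := by
  rw [commute_iff_eq, F.mul, F.mul, F.inj.eq_iff]

theorem mem_cenE {a b : El} : b ∈ cenE a ↔ Commute (F.φ a) (F.φ b) := by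
  rw [F.commute_iff, cenE, List.mem_filter, beq_iff_eq]
  exact ⟨fun h => h.2, fun h => ⟨mem_els b, h⟩⟩

theorem orderOf_eq_two {a : El} : orderOf (F.φ a) = 2 ↔ lab a ≠ .none := by
  rw [Ne, lab_none a (mem_els a), Bool.not_eq_false, isI, Bool.and_eq_true, beq_iff_eq,
    bne_iff_ne, Involution.orderOf_eq_two_iff, F.mul, F.eq_one_iff, Ne, F.eq_one_iff]
  exact and_comm

theorem exists_label {x : G} (hx : x ∈ S) (h2 : orderOf x = 2) :
    ∃ a, F.φ a = x ∧ lab a ≠ .none := by
  obtain ⟨a, rfl⟩ := F.surj x hx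
  exact ⟨a, rfl, F.orderOf_eq_two.1 h2⟩

/-- The central involution. -/
def z : G := F.φ zE

theorem orderOf_z : orderOf F.z = 2 := F.orderOf_eq_two.2 (by rw [lab_z.1]; decide)

theorem z_comm {s : G} (hs : s ∈ S) : Commute s F.z := by
  obtain ⟨a, rfl⟩ := F.surj s hs
  exact F.commute_iff.2 (z_central a (mem_els a)).symm

theorem z_comm' (a : El) : Commute (F.φ a) F.z := F.z_comm (F.mem a)

theorem eq_z {a : El} (h : lab a = .z) : F.φ a = F.z := congrArg F.φ (lab_z.2 a (mem_els a) h)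

/-- Involutions with the same label are conjugate. -/
theorem isConj_of_lab {a b : El} (ha : lab a ≠ .none) (h : lab a = lab b) :
    IsConj (F.φ a) (F.φ b) := by
  obtain ⟨g, -, hg⟩ := lab_conj a (mem_els a) b (mem_els b) ha h
  exact isConj_iff.2 ⟨F.φ g, by rw [F.conj, hg]⟩

include F in
theorem card_S : Nat.card (S : Subgroup G) = 64 := by
  let e : El ≃ (S : Subgroup G) := Equiv.ofBijective (fun a => ⟨F.φ a, F.mem a⟩)
    ⟨fun a b h => F.inj (congrArg Subtype.val h),
      fun s => (F.surj s s.2).imp fun a ha => Subtype.ext ha⟩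
  rw [← Nat.card_congr e, Nat.card_eq_fintype_card]
  rfl

/-- The centraliser of a labelled element in the Sylow subgroup. -/
def cS (a : El) : Subgroup G := (S : Subgroup G) ⊓ centralizer ({F.φ a} : Set G)

theorem mem_cS {a : El} {x : G} : x ∈ F.cS a ↔ ∃ b, F.φ b = x ∧ Commute (F.φ a) (F.φ b) := by
  rw [cS, mem_inf, mem_centralizer_singleton_iff]
  constructor
  · rintro ⟨hx, hc⟩
    obtain ⟨b, rfl⟩ := F.surj x hx
    exact ⟨b, rfl, (show Commute (F.φ b) (F.φ a) from hc).symm⟩
  · rintro ⟨b, rfl, hc⟩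
    exact ⟨F.mem b, hc.symm.eq⟩

theorem card_cS (a : El) : Nat.card (F.cS a) = (cenE a).length := by
  classical
  have hnd : (cenE a).Nodup := els_facts.1.filter _
  rw [← List.toFinset_card_of_nodup hnd]
  have : (F.cS a : Set G) = F.φ '' ↑(cenE a).toFinset := by
    ext x
    rw [SetLike.mem_coe, F.mem_cS]
    simp only [List.coe_toFinset, Set.mem_image, Set.mem_ofPred_eq, F.mem_cenE]
    exact ⟨fun ⟨b, e, h⟩ => ⟨b, h, e⟩, fun ⟨b, h, e⟩ => ⟨b, e, h⟩⟩
  show Nat.card ↥(F.cS a : Set G) = _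
  rw [this, Nat.card_image_of_injective F.inj]
  exact Nat.card_eq_finsetCard _

theorem cS_le (a : El) : F.cS a ≤ centralizer ({F.φ a} : Set G) := inf_le_right

theorem cS_two (a : El) : IsPGroup 2 (F.cS a) := S.isPGroup'.to_le inf_le_left

variable [Finite G]

/-- A 2-group centralising an involution is conjugate into the centraliser of a labelled
involution. -/
theorem exists_move {x : G} (hx : orderOf x = 2) {T : Subgroup G} (hT : IsPGroup 2 T)
    (hTx : ∀ t ∈ T, Commute t x) :
    ∃ g a, g * x * g⁻¹ = F.φ a ∧ lab a ≠ .none ∧ ∀ t ∈ T, g * t * g⁻¹ ∈ F.cS a := by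
  classical
  haveI : Fact (Nat.Prime 2) := ⟨Nat.prime_two⟩
  have hle : T ≤ normalizer (zpowers x : Set G) := fun t ht => by
    rw [mem_normalizer_iff]
    intro y
    have hh : t * x * t⁻¹ = x := by rw [(hTx t ht).eq, mul_inv_cancel_right]
    constructor
    · rintro ⟨k, rfl⟩
      refine ⟨k, ?_⟩
      show x ^ k = t * x ^ k * t⁻¹
      rw [← conj_zpow, hh]
    · rintro ⟨k, hk⟩
      refine ⟨k, ?_⟩
      show x ^ k = y
      have hk' : x ^ k = t * y * t⁻¹ := hk
      have : t * x ^ k * t⁻¹ = t * y * t⁻¹ := by rw [← conj_zpow, hh, hk']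
      simpa using this
  have hz : IsPGroup 2 (zpowers x) := IsPGroup.of_card (n := 1) (by rw [Nat.card_zpowers, hx, pow_one])
  obtain ⟨P, hP⟩ := (hT.to_sup_of_normal_right' hz hle).exists_le_sylow
  obtain ⟨g, hg⟩ := MulAction.exists_smul_eq G P S
  have hgS : ∀ y ∈ T ⊔ zpowers x, g * y * g⁻¹ ∈ S := fun y hy => hg ▸ ⟨y, hP hy, rfl⟩
  obtain ⟨a, ha, hl⟩ := F.exists_label (hgS x (mem_sup_right (mem_zpowers x)))
    (by rw [Involution.orderOf_conj, hx])
  refine ⟨g, a, ha.symm, hl, fun t ht => F.mem_cS.2 ?_⟩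
  obtain ⟨b, hb⟩ := F.surj _ (hgS t (mem_sup_left ht))
  refine ⟨b, hb, ?_⟩
  rw [hb, ha]
  exact ((hTx t ht).map (MulAut.conj g).toMonoidHom).symm

/-- An involution is extremal if no conjugate in `S` has a larger centraliser in `S`. -/
theorem ext_sylow {a : El} (ha : lab a ≠ .none) {n : ℕ} (hn : (cenE a).length = n)
    (hmax : ∀ b, IsConj (F.φ a) (F.φ b) → (cenE b).length ≤ n) {T : Subgroup G}
    (hT : IsPGroup 2 T) (hle : T ≤ centralizer ({F.φ a} : Set G)) : Nat.card T ≤ n := by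
  obtain ⟨g, b, hgb, -, hsub⟩ := F.exists_move (F.orderOf_eq_two.2 ha) hT
    (fun t ht => mem_centralizer_singleton_iff.1 (hle ht))
  refine le_trans ?_ (hmax b (isConj_iff.2 ⟨g, hgb⟩))
  rw [← F.card_cS]
  exact Nat.card_le_card_of_injective (fun t => (⟨g * t * g⁻¹, hsub t t.2⟩ : F.cS b))
    fun s t h => Subtype.ext (mul_left_cancel (mul_right_cancel (congrArg Subtype.val h)))

/-- An element conjugating the centraliser of one extremal involution onto that of another. -/
theorem exists_onto {a b : El} (ha : lab a ≠ .none) (hb : lab b ≠ .none)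
    (hc : IsConj (F.φ a) (F.φ b)) {n : ℕ} (han : (cenE a).length = n) (hbn : (cenE b).length = n)
    (hmax : ∀ c, IsConj (F.φ a) (F.φ c) → (cenE c).length ≤ n) :
    ∃ g, g * F.φ a * g⁻¹ = F.φ b ∧ (F.cS a).map (MulAut.conj g).toMonoidHom = F.cS b := by
  classical
  haveI : Fact (Nat.Prime 2) := ⟨Nat.prime_two⟩
  set C := centralizer ({F.φ b} : Set G) with hC
  have key : ∀ T : Subgroup G, T ≤ C → IsPGroup 2 T → Nat.card T = n →
      ∃ P : Sylow 2 C, (P : Subgroup C) = T.subgroupOf C := by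
    intro T hTC hT hcard
    obtain ⟨P, hP⟩ := (hT.of_equiv (subgroupOfEquivOfLe hTC).symm).exists_le_sylow
    refine ⟨P, (eq_of_le_of_card_ge hP ?_).symm⟩
    rw [Nat.card_congr (subgroupOfEquivOfLe hTC).toEquiv, hcard,
      ← card_map_of_injective (f := C.subtype) C.subtype_injective]
    exact F.ext_sylow hb hbn (fun c h => hmax c (hc.trans h)) (P.isPGroup'.map C.subtype)
      (map_subtype_le _)
  obtain ⟨h, hh⟩ := isConj_iff.1 hc
  set T := (F.cS a).map (MulAut.conj h).toMonoidHom with hT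
  have hTC : T ≤ C := by
    rintro _ ⟨x, hx, rfl⟩
    have hxa : Commute x (F.φ a) := mem_centralizer_singleton_iff.1 (F.cS_le a hx)
    refine mem_centralizer_singleton_iff.2 ?_
    rw [← hh]
    exact (hxa.map (MulAut.conj h).toMonoidHom).eq
  obtain ⟨P, hP⟩ := key T hTC ((F.cS_two a).map _) (by
    rw [hT, card_map_of_injective (MulAut.conj h).injective, F.card_cS, han])
  obtain ⟨R, hR⟩ := key (F.cS b) (F.cS_le b) (F.cS_two b) (by rw [F.card_cS, hbn])
  obtain ⟨c, hc'⟩ := MulAction.exists_smul_eq C P R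
  have hcb : Commute (c : G) (F.φ b) := mem_centralizer_singleton_iff.1 c.2
  refine ⟨c * h, ?_, ?_⟩
  · calc (c : G) * h * F.φ a * ((c : G) * h)⁻¹ = c * (h * F.φ a * h⁻¹) * (c : G)⁻¹ := by group
      _ = F.φ b := by rw [hh, hcb.eq, mul_inv_cancel_right]
  refine eq_of_le_of_card_ge ?_ (by
    rw [card_map_of_injective (MulAut.conj _).injective, F.card_cS, F.card_cS, han, hbn])
  rintro _ ⟨x, hx, rfl⟩
  have hxT : h * x * h⁻¹ ∈ T := ⟨x, hx, rfl⟩
  have h1 : (⟨h * x * h⁻¹, hTC hxT⟩ : C) ∈ (P : Subgroup C) := hP ▸ hxT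
  have h2 : (MulAut.conj c) ⟨h * x * h⁻¹, hTC hxT⟩ ∈ (R : Subgroup C) := by
    rw [← hc', Sylow.coe_subgroup_smul]
    exact ⟨_, h1, rfl⟩
  rw [hR, mem_subgroupOf] at h2
  convert h2 using 1
  simp [mul_assoc]

end SF

end Cfsg.Agent.TwelveType
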