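import Cfsg.Agent.Lib.CoreKilling.FromNormalRankThree
import Cfsg.Agent.Lib.CoreKilling.WeakMain
import Cfsg.Agent.Lib.AbelianSylow.Cent.CoreFix
import Cfsg.Agent.Lib.Bender.CoreInCore
import Cfsg.Agent.Lib.Bender.RankOneHalf
import Cfsg.Agent.Lib.OddOrderTheorem.Basic

/-!
# The core step for the type of the Mathieu group of degree twelve

`P` is a normal elementary abelian subgroup of order at least 8 of the Sylow subgroup `S`, all
its involutions are of the first kind `Z`.  For `e` of the first kind the elements of odd order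
centralising `e` and another involution lie in `O(C(e))` (`BalData`).

* `BalData.fix_le_second` : `W ⊓ C(x) ≤ O(C(x))` for `W` the group generated by the cores of `P`,
  if `C(x)` has a normal subgroup holding its elements of odd order with a four subgroup of `P`
  as Sylow 2-subgroup
* `BalData.setting` : `W` gives a `CoreKilling.Setting`
* `BalData.core_bot` : in a simple group all the cores are trivial
-/

set_option autoImplicit false

set_option linter.style.haveILetI false
set_option linter.unusedSectionVars false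

namespace Cfsg.Agent.TwelveType

open Subgroup CoreKilling
open scoped Pointwise

universe u

variable {G : Type u} [Group G] [Finite G]

/-- A subgroup holding a 2-subgroup of odd index and the elements of odd order is everything. -/
theorem le_of_odd_elements {E H M : Subgroup G} (hodd : Odd (E.relIndex H)) (hEM : E ≤ M)
    (hM : ∀ a ∈ H, Odd (orderOf a) → a ∈ M) : H ≤ M := by
  haveI : Fact (Nat.Prime 2) := ⟨Nat.prime_two⟩
  set L := normalClosure {a : H | Odd (orderOf a)} with hL
  have hLM : L ≤ M.subgroupOf H := (closure_le _).2 fun a ha => by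
    obtain ⟨b, hb, hc⟩ := Group.mem_conjugatesOfSet_iff.1 ha
    obtain ⟨c, rfl⟩ := isConj_iff.1 hc
    refine hM _ (c * b * c⁻¹).2 ?_
    show Odd (orderOf (((c * b * c⁻¹ : H)) : G))
    rw [Subgroup.orderOf_coe, Involution.orderOf_conj]
    exact hb
  have hp : IsPGroup 2 (H ⧸ L) := fun q => by
    induction q using QuotientGroup.induction_on with
    | _ g =>
      refine ⟨(orderOf g).factorization 2, ?_⟩
      rw [← QuotientGroup.mk_pow, QuotientGroup.eq_one_iff]
      refine subset_normalClosure ?_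
      show Odd (orderOf (g ^ 2 ^ (orderOf g).factorization 2))
      rw [orderOf_pow_of_dvd (pow_ne_zero _ two_ne_zero) (Nat.ordProj_dvd _ _),
        ← Nat.not_even_iff_odd, even_iff_two_dvd]
      exact Nat.not_dvd_ordCompl Nat.prime_two (orderOf_pos g).ne'
  obtain ⟨k, hk⟩ := IsPGroup.iff_card.1 hp
  have h1 : (M.subgroupOf H).index ∣ 2 ^ k := hk ▸ index_eq_card L ▸ index_dvd_of_le hLM
  have h2 : (M.subgroupOf H).index ∣ E.relIndex H :=
    index_dvd_of_le fun e he => hEM he
  obtain ⟨i, -, hi⟩ := (Nat.dvd_prime_pow Nat.prime_two).1 h1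
  have : i = 0 := by
    by_contra hi0
    rw [hi] at h2
    exact (Nat.not_even_iff_odd.2 hodd) (even_iff_two_dvd.2 ((dvd_pow_self 2 hi0).trans h2))
  exact subgroupOf_eq_top.1 (index_eq_one.1 (by rw [hi, this, pow_zero]))

/-- A subgroup of odd order normal in the centraliser lies in its core. -/
theorem le_core_of_normal {x : G} {Y : Subgroup G} (hY : Y ≤ centralizer ({x} : Set G))
    (hodd : ¬ 2 ∣ Nat.card Y) (hn : centralizer ({x} : Set G) ≤ normalizer (Y : Set G)) :
    Y ≤ Cfsg.centralizerPPrimeCore 2 x := fun y hy =>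
  ⟨⟨y, hY hy⟩, Cores.le_pPrimeCore (Cores.subgroupOf_normal_of_le_normalizer hn)
    (by rw [Cores.card_subgroupOf hY]
        exact ((Nat.prime_two.coprime_iff_not_dvd).2 hodd).symm)
    (show (⟨y, hY hy⟩ : centralizer ({x} : Set G)) ∈ Y.subgroupOf _ from hy), rfl⟩

theorem odd_orderOf_of_mem {Y : Subgroup G} (hY : ¬ 2 ∣ Nat.card Y) {a : G} (ha : a ∈ Y) :
    Odd (orderOf a) := by
  rw [← Nat.not_even_iff_odd, even_iff_two_dvd]
  exact fun h => hY (h.trans (orderOf_dvd_natCard Y ha))

/-- The hypotheses. -/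
structure BalData (S : Sylow 2 G) (P : Subgroup G) (Z : G → Prop) : Prop where
  elem : Cfsg.IsElementaryAbelian 2 P
  rank : 2 ^ 3 ≤ Nat.card P
  le : P ≤ (S : Subgroup G)
  norm : ∀ s ∈ S, ∀ b ∈ P, s * b * s⁻¹ ∈ P
  pure : ∀ e ∈ P, e ≠ 1 → Z e
  bal : ∀ e x : G, Z e → orderOf x = 2 → x ≠ e → Commute x e →
    ∀ a : G, Odd (orderOf a) → Commute a e → Commute a x → a ∈ Cfsg.centralizerPPrimeCore 2 e

variable {S : Sylow 2 G} {P : Subgroup G} {Z : G → Prop}

/-- The subgroup generated by the cores of the involutions of `P`. -/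
def gen (P : Subgroup G) : Subgroup G :=
  ⨆ a : {a : G // a ∈ P ∧ a ≠ 1}, Cfsg.centralizerPPrimeCore 2 (a : G)

namespace BalData

variable (D : BalData S P Z)
include D

theorem functor : Cfsg.IsSolvableSignalizerFunctor 2 P
    (fun a => Cfsg.centralizerPPrimeCore 2 a) := by
  haveI : Fact (Nat.Prime 2) := ⟨Nat.prime_two⟩
  refine ⟨⟨fun a _ _ => Signalizer.core_le_centralizer a,
    fun a _ _ => Signalizer.not_dvd_card_core a,
    fun a ha _ b hb _ hx => Signalizer.conj_mem (Signalizer.invariant_core D.elem.1 ha) hb hx,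
    fun a ha ha1 b hb hb1 y hy => ?_⟩, fun a _ _ => ?_⟩
  · by_cases e : a = b
    · exact e ▸ hy.1
    exact D.bal b a (D.pure b hb hb1) (orderOf_of_mem D.elem ha ha1) e
      (Signalizer.commute_of_isMulCommutative D.elem.1 ha hb) y
      (odd_orderOf_of_mem (Signalizer.not_dvd_card_core a) hy.1)
      (mem_centralizer_singleton_iff.1 hy.2)
      (mem_centralizer_singleton_iff.1 (Signalizer.core_le_centralizer a hy.1))
  · exact OddOrderTheorem.solvable
      (Nat.odd_iff.2 (Nat.two_dvd_ne_zero.1 (Signalizer.not_dvd_card_core a)))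

theorem not_dvd_gen : ¬ 2 ∣ Nat.card (gen P) :=
  haveI : Fact (Nat.Prime 2) := ⟨Nat.prime_two⟩
  (Signalizer.solvable_signalizer_functor D.elem D.rank D.functor).2.1

theorem gen_fix {e : G} (he : e ∈ P) (he1 : e ≠ 1) :
    gen P ⊓ centralizer ({e} : Set G) = Cfsg.centralizerPPrimeCore 2 e :=
  haveI : Fact (Nat.Prime 2) := ⟨Nat.prime_two⟩
  (Signalizer.solvable_signalizer_functor D.elem D.rank D.functor).2.2 e he he1

omit D in
theorem core_le_gen {e : G} (he : e ∈ P) (he1 : e ≠ 1) :
    Cfsg.centralizerPPrimeCore 2 e ≤ gen P :=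
  le_iSup (fun a : {a : G // a ∈ P ∧ a ≠ 1} => Cfsg.centralizerPPrimeCore 2 (a : G)) ⟨e, he, he1⟩

theorem le_normalizer_gen : P ≤ normalizer (gen P : Set G) :=
  haveI : Fact (Nat.Prime 2) := ⟨Nat.prime_two⟩
  Signalizer.le_normalizer_iSup fun a => Signalizer.invariant_core D.elem.1 a.2.1

/-- `W` is generated by the cores of any four subgroup of `P`. -/
theorem gen_le {E : Subgroup G} (hEP : E ≤ P) (hE : IsFour E) {K : Subgroup G}
    (hK : ∀ e ∈ E, e ≠ 1 → Cfsg.centralizerPPrimeCore 2 e ≤ K) : gen P ≤ K :=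
  haveI : Fact (Nat.Prime 2) := ⟨Nat.prime_two⟩
  Signalizer.le_of_elements hE.1 hE.2 _ _ D.not_dvd_gen (hEP.trans D.le_normalizer_gen)
    fun e he he1 => (D.gen_fix (hEP he) he1).le.trans (hK e he he1)

/-- An element moving a four subgroup of `P` into `P` normalises `W`. -/
theorem mem_normalizer {E : Subgroup G} (hEP : E ≤ P) (hE : IsFour E) {g : G}
    (hg : ∀ e ∈ E, g * e * g⁻¹ ∈ P) : g ∈ normalizer (gen P : Set G) := by
  haveI : Fact (Nat.Prime 2) := ⟨Nat.prime_two⟩
  have hle : gen P ≤ (gen P).comap (MulAut.conj g).toMonoidHom :=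
    D.gen_le hEP hE fun e he he1 => by
      rw [← map_le_iff_le_comap, Signalizer.map_conj_centralizerPPrimeCore]
      exact core_le_gen (hg e he) fun h => he1 (conj_eq_one_iff.1 h)
  refine Solvable.mem_normalizer_iff_conj.2 (eq_of_le_of_card_ge ?_ (Solvable.card_conj g _).ge)
  rintro _ ⟨w, hw, rfl⟩
  exact hle hw

/-- An involution of `S` centralises a four subgroup of `P`. -/
theorem exists_four {x : G} (hxS : x ∈ S) (hx : orderOf x = 2) :
    ∃ E : Subgroup G, E ≤ P ∧ IsFour E ∧ ∀ e ∈ E, Commute x e := by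
  obtain ⟨F, hF, -, hxF, -, E, hEF, hE, hEP⟩ := exists_rank_three D.elem D.rank hx (D.norm x hxS)
  exact ⟨E, hEP, hE, fun e he => Signalizer.commute_of_isMulCommutative hF.1 hxF (hEF he)⟩

theorem core_le {x : G} (hxS : x ∈ S) (hx : orderOf x = 2) :
    Cfsg.centralizerPPrimeCore 2 x ≤ gen P := by
  haveI : Fact (Nat.Prime 2) := ⟨Nat.prime_two⟩
  obtain ⟨E, hEP, hE, hc⟩ := D.exists_four hxS hx
  refine Signalizer.le_of_elements hE.1 hE.2 _ _ (Signalizer.not_dvd_card_core x)
    (fun e he => Signalizer.centralizer_le_normalizer_core x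
      (mem_centralizer_singleton_iff.2 (hc e he).symm)) fun e he he1 a ha => ?_
  by_cases hex : x = e
  · exact core_le_gen (hEP he) he1 (hex ▸ ha.1)
  exact core_le_gen (hEP he) he1 (D.bal e x (D.pure e (hEP he) he1) hx hex (hc e he) a
    (odd_orderOf_of_mem (Signalizer.not_dvd_card_core x) ha.1)
    (mem_centralizer_singleton_iff.1 ha.2)
    (mem_centralizer_singleton_iff.1 (Signalizer.core_le_centralizer x ha.1)))

theorem fix_le_first {x : G} (hxS : x ∈ S) (hx : orderOf x = 2) (hZ : Z x) :
    gen P ⊓ centralizer ({x} : Set G) ≤ Cfsg.centralizerPPrimeCore 2 x := by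
  haveI : Fact (Nat.Prime 2) := ⟨Nat.prime_two⟩
  obtain ⟨E, hEP, hE, hc⟩ := D.exists_four hxS hx
  refine Signalizer.le_of_elements hE.1 hE.2 _ _
    (fun h => D.not_dvd_gen (h.trans (card_dvd_of_le inf_le_left)))
    (fun e he => ?_) fun e he he1 a ha => ?_
  · refine Signalizer.le_normalizer_of_conj_mem (A := E) ?_ he
    exact fun b hb y hy => ⟨Signalizer.conj_mem (hEP.trans D.le_normalizer_gen) hb hy.1,
      (centralizer ({x} : Set G)).mul_mem ((centralizer ({x} : Set G)).mul_mem
        (mem_centralizer_singleton_iff.2 (hc b hb).symm) hy.2)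
        ((centralizer ({x} : Set G)).inv_mem (mem_centralizer_singleton_iff.2 (hc b hb).symm))⟩
  · by_cases hex : x = e
    · subst hex
      exact (D.gen_fix (hEP he) he1).le ha.1
    exact D.bal x e hZ (orderOf_of_mem hE.1 he he1) (Ne.symm hex) (hc e he).symm a
      (odd_orderOf_of_mem D.not_dvd_gen ha.1.1) (mem_centralizer_singleton_iff.1 ha.1.2)
      (mem_centralizer_singleton_iff.1 ha.2)

theorem fix_le_second {x : G} (hx : orderOf x = 2) (hZ : ¬ Z x) {E K : Subgroup G}
    (hEP : E ≤ P) (hE : IsFour E) (hEK : E ≤ K) (hKx : K ≤ centralizer ({x} : Set G))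
    (hxK : centralizer ({x} : Set G) ≤ normalizer (K : Set G))
    (hodd : ∀ a : G, Commute a x → Odd (orderOf a) → a ∈ K) (hidx : Odd (E.relIndex K)) :
    gen P ⊓ centralizer ({x} : Set G) ≤ Cfsg.centralizerPPrimeCore 2 x := by
  haveI : Fact (Nat.Prime 2) := ⟨Nat.prime_two⟩
  -- the Sylow subgroup of `K`
  set PK : Sylow 2 K := (hE.isPGroup.comap_subtype (K := K)).toSylow
    (fun h => (Nat.not_even_iff_odd.2 hidx) (even_iff_two_dvd.2 h)) with hPK
  have hPKc : (PK : Subgroup K) = E.subgroupOf K := rfl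
  haveI : IsMulCommutative (PK : Subgroup K) := ⟨⟨fun a b => Subtype.ext (Subtype.ext
    (Signalizer.commute_of_isMulCommutative hE.1.1 a.2 b.2))⟩⟩
  set M := (normalizer (gen P : Set G)).subgroupOf K with hM
  set Y := gen P ⊓ centralizer ({x} : Set G) with hY
  have hYodd : ¬ 2 ∣ Nat.card Y := fun h => D.not_dvd_gen (h.trans (card_dvd_of_le inf_le_left))
  have hYK : Y ≤ K := fun a ha =>
    hodd a (mem_centralizer_singleton_iff.1 ha.2) (odd_orderOf_of_mem hYodd ha)
  have hcop : (Nat.card (Y.subgroupOf K)).Coprime 2 := by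
    rw [Cores.card_subgroupOf hYK]
    exact ((Nat.prime_two.coprime_iff_not_dvd).2 hYodd).symm
  have hMY : M ≤ normalizer (Y.subgroupOf K : Set K) :=
    Signalizer.le_normalizer_of_conj_mem fun m hm y hy =>
      ⟨Signalizer.conj_mem (le_refl (normalizer (gen P : Set G))) hm hy.1,
        (centralizer ({x} : Set G)).mul_mem
          ((centralizer ({x} : Set G)).mul_mem (hKx m.2) hy.2)
          ((centralizer ({x} : Set G)).inv_mem (hKx m.2))⟩
  have hYM : Y.subgroupOf K ≤ M := fun y hy => le_normalizer hy.1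
  -- `W ∩ K` lies in the core of `K`
  have hcore : Y.subgroupOf K ≤ Cfsg.oddCore K := by
    by_cases hne : M = ⊤
    · exact Cores.le_pPrimeCore (normalizer_eq_top_iff.1 (top_le_iff.1 (hne ▸ hMY))) hcop
    have hse : Cfsg.IsStronglyEmbedded M := by
      refine AbelianSylow.Core.isStronglyEmbedded_of PK ?_ hne ?_ fun e he he2 => ?_
      · intro h
        have h1 : E = ⊥ := by
          rw [← hPKc] at *
          rw [eq_bot_iff]
          intro e he
          have : (⟨e, hEK he⟩ : K) ∈ (PK : Subgroup K) := he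
          rw [h, mem_bot] at this
          exact congrArg Subtype.val this
        have := hE.2
        rw [h1, Subgroup.card_bot] at this
        omega
      · intro g hg
        refine D.mem_normalizer hEP hE fun e he => hEP ?_
        exact (mem_normalizer_iff.1 hg ⟨e, hEK he⟩).1 he
      · have hle : K ⊓ centralizer ({(e : G)} : Set G) ≤ normalizer (gen P : Set G) := by
          refine le_of_odd_elements (E := E) ?_ (hEP.trans D.le_normalizer_gen) fun a ha ho => ?_
          · refine hidx.of_dvd_nat (Dvd.intro _ (relIndex_mul_relIndex E _ K ?_ inf_le_left))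
            exact fun b hb => ⟨hEK hb, mem_centralizer_singleton_iff.2
              (Signalizer.commute_of_isMulCommutative hE.1.1 hb he)⟩
          · have he1 : (e : G) ≠ 1 := fun h => by
              rw [Subtype.coe_injective (h.trans (K.coe_one).symm), orderOf_one] at he2
              omega
            refine le_normalizer (core_le_gen (hEP he) he1 ?_)
            exact D.bal e x (D.pure _ (hEP he) he1) hx
              (fun h => hZ (h ▸ D.pure _ (hEP he) he1))
              (mem_centralizer_singleton_iff.1 (hKx (hEK he))).symm a ho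
              (mem_centralizer_singleton_iff.1 ha.2)
              (mem_centralizer_singleton_iff.1 (hKx ha.1))
        intro g hg
        exact hle ⟨g.2, mem_centralizer_singleton_iff.2
          (congrArg Subtype.val (mem_centralizer_singleton_iff.1 hg))⟩
    refine le_trans (fun y hy => ?_) (Bender.oddCore_le Bender.rankOneHalf hse)
    refine ⟨⟨y, hYM hy⟩, Cores.le_pPrimeCore (N := (Y.subgroupOf K).subgroupOf M)
      (Cores.subgroupOf_normal_of_le_normalizer hMY) ?_
      (show (⟨y, hYM hy⟩ : M) ∈ (Y.subgroupOf K).subgroupOf M from hy), rfl⟩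
    rw [Cores.card_subgroupOf hYM]
    exact hcop
  -- the core of `K` lies in the core of `C(x)`
  have : (Cfsg.pPrimeCore 2 K).Characteristic := Cores.pPrimeCore_characteristic 2 K
  have hmap : Y ≤ (Cfsg.pPrimeCore 2 K).map K.subtype := fun y hy =>
    ⟨⟨y, hYK hy⟩, hcore (show (⟨y, hYK hy⟩ : K) ∈ Y.subgroupOf K from hy), rfl⟩
  refine hmap.trans ?_
  refine le_core_of_normal ((map_subtype_le _).trans hKx) ?_
    (hxK.trans (Cores.normalizer_le_normalizer_map _))
  rw [Cores.card_map_subtype]
  exact Cores.not_dvd_card_pPrimeCore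

theorem setting (h2 : ∀ x ∈ S, orderOf x = 2 → ¬ Z x →
    gen P ⊓ centralizer ({x} : Set G) ≤ Cfsg.centralizerPPrimeCore 2 x) :
    Setting S (gen P) where
  odd := D.not_dvd_gen
  fix x hxS hx := le_antisymm
    (by
      by_cases hZ : Z x
      · exact D.fix_le_first hxS hx hZ
      · exact h2 x hxS hx hZ)
    (le_inf (D.core_le hxS hx) (Signalizer.core_le_centralizer x))
  norm := fun s hs => by
    haveI : Fact (Nat.Prime 2) := ⟨Nat.prime_two⟩
    exact D.mem_normalizer le_rfl
      ⟨D.elem, le_trans (by norm_num) D.rank⟩ fun e he => D.norm s hs e he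

theorem not_rank_two : ¬ Cfsg.PRankLE 2 2 G := fun h => by
  have := h P D.elem.1 D.elem.2
  have := D.rank
  omega

/-- In a simple group all the cores are trivial. -/
theorem core_bot [IsSimpleGroup G] (hna : ¬ IsMulCommutative G) (h2 : ∀ x ∈ S, orderOf x = 2 →
    ¬ Z x → gen P ⊓ centralizer ({x} : Set G) ≤ Cfsg.centralizerPPrimeCore 2 x)
    {t : G} (ht : orderOf t = 2) : Cfsg.centralizerPPrimeCore 2 t = ⊥ :=
  CoreKilling.core_bot_of_rank_three hna (D.setting h2) D.not_rank_two ht

end BalData

end Cfsg.Agent.TwelveType
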