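import Cfsg.Agent.Lib.TwelveType.Core
import Cfsg.Agent.Lib.TwelveCent.Transfer

/-!
# Killing the core of the central involution for the type of the Mathieu group of degree twelve

* `CoreData` : the local facts, `P` being the pure elementary abelian subgroup of order 8 of the
  Sylow subgroup `S` and `r` an involution of the second class
* `core_bot` : `O(C(z)) = 1`
-/

set_option autoImplicit false
set_option linter.style.haveILetI false
set_option linter.unusedSectionVars false

namespace Cfsg.Agent.TwelveType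

open Subgroup CoreKilling
open scoped Pointwise

universe u

variable {G : Type u} [Group G] [Finite G]

/-- The subgroup generated by the centraliser of `z` and the elements moving a four subgroup of
`P` into `P`. -/
def Mgen (z : G) (P : Subgroup G) : Subgroup G :=
  closure {g | Commute g z ∨ ∃ E ≤ P, IsFour E ∧ ∀ e ∈ E, g * e * g⁻¹ ∈ P}

/-- The local facts. -/
structure CoreData (S : Sylow 2 G) (z : G) (P : Subgroup G) (r : G) : Prop where
  ord : orderOf z = 2
  central : ∀ s ∈ S, Commute s z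
  le : P ≤ (S : Subgroup G)
  elem : Cfsg.IsElementaryAbelian 2 P
  card : Nat.card P = 8
  mem : z ∈ P
  normal : ∀ s ∈ S, ∀ p ∈ P, s * p * s⁻¹ ∈ P
  pure : ∀ p ∈ P, p ≠ 1 → IsConj z p
  odd_cent : ∀ x g : G, orderOf x = 2 → x ≠ z → Commute x z → Commute g z → Commute g x →
    Odd (orderOf g) → g ∈ Cfsg.centralizerPPrimeCore 2 z
  cent : ∀ g : G, Commute g z →
    ∃ o ∈ Cfsg.centralizerPPrimeCore 2 z, ∀ p ∈ P, o * g * p * (o * g)⁻¹ ∈ P
  r_mem : r ∈ S
  r_ord : orderOf r = 2
  r_not : ¬ IsConj z r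
  r_cent : ∃ (T V : Subgroup G) (w : G), T ≤ centralizer ({r} : Set G) ∧ Nat.card T = 16 ∧
    Odd (T.relIndex (centralizer ({r} : Set G))) ∧ V ≤ T ∧ V ≤ P ∧ Nat.card V = 4 ∧ r ∈ T ∧
    r ∉ V ∧ (∀ v ∈ T, IsConj z v → v ∈ V) ∧ w ∈ T ∧ w * w = 1 ∧ ¬ IsConj z w ∧ w ∉ V ∧
    w * r ∉ V
  others : ∀ x ∈ S, orderOf x = 2 → ¬ IsConj z x → ∃ g ∈ Mgen z P, g * r * g⁻¹ = x

namespace CoreData

variable {S : Sylow 2 G} {P : Subgroup G} {z r : G}

theorem balData (D : CoreData S z P r) : BalData S P (IsConj z) where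
  elem := D.elem
  rank := by rw [D.card]; norm_num
  le := D.le
  norm := D.normal
  pure := D.pure
  bal e x he hx hne hc a ha hae hax := by
    obtain ⟨g, rfl⟩ := isConj_iff.1 he
    have hcz : ∀ b : G, Commute b (g * z * g⁻¹) → Commute (g⁻¹ * b * g) z := fun b hb => by
      have := (SemiconjBy.conj_iff (a := b) (b := g⁻¹)).2 hb
      simpa [Commute, mul_assoc] using this
    have hcx : Commute (g⁻¹ * a * g) (g⁻¹ * x * g) := by
      have := (SemiconjBy.conj_iff (a := a) (b := g⁻¹)).2 hax
      simpa [Commute] using this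
    have hord : ∀ b : G, orderOf (g⁻¹ * b * g) = orderOf b := fun b => by
      simpa using Involution.orderOf_conj g⁻¹ b
    have h := D.odd_cent (g⁻¹ * x * g) (g⁻¹ * a * g) ((hord x).trans hx)
      (fun h => hne (by rw [← h]; group)) (hcz x hc) (hcz a hae) hcx (by rwa [hord])
    rw [← Signalizer.map_conj_centralizerPPrimeCore]
    exact ⟨_, h, by simp [mul_assoc]⟩

theorem mgen_le (D : CoreData S z P r) : Mgen z P ≤ normalizer (gen P : Set G) := by
  refine (closure_le _).2 ?_
  rintro g (hg | ⟨E, hEP, hE, hgE⟩)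
  · obtain ⟨o, ho, hog⟩ := D.cent g hg
    have h1 : o ∈ normalizer (gen P : Set G) :=
      le_normalizer (BalData.core_le_gen D.mem (Involution.ne_one D.ord) ho)
    have h2 : o * g ∈ normalizer (gen P : Set G) :=
      D.balData.mem_normalizer le_rfl ⟨D.elem, by rw [D.card]; norm_num⟩ hog
    simpa using mul_mem (inv_mem h1) h2
  · exact D.balData.mem_normalizer hEP hE hgE

theorem fix_r (D : CoreData S z P r) :
    gen P ⊓ centralizer ({r} : Set G) ≤ Cfsg.centralizerPPrimeCore 2 r := by
  haveI : Fact (Nat.Prime 2) := ⟨Nat.prime_two⟩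
  obtain ⟨T, V, w, hT, hT16, hTodd, hVT, hVP, hV4, hrT, hrV, hTV, hwT, hw2, hwz, hwV, hwrV⟩ :=
    D.r_cent
  set C := centralizer ({r} : Set G) with hC
  have hVC : V ≤ C := hVT.trans hT
  have hr2 : r * r = 1 := Involution.mul_self D.r_ord
  have hcomm : ∀ g : C, Commute (g : G) r := fun g => mem_centralizer_singleton_iff.1 g.2
  have hzord : ∀ v : G, IsConj z v → v * v = 1 ∧ v ≠ 1 := fun v hv => by
    have ho := (Involution.orderOf_eq_of_isConj hv).symm.trans D.ord
    exact ⟨Involution.mul_self ho, Involution.ne_one ho⟩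
  have hpre : TwelveCent.PreSecond (T.subgroupOf C) (V.subgroupOf C)
      (fun v => IsConj z (v : G)) ⟨r, mem_centralizer_singleton_iff.2 rfl⟩ ⟨w, hT hwT⟩ :=
    { central := fun g => Subtype.ext (hcomm g).eq
      r_sq := Subtype.ext hr2
      r_mem := hrT
      card_zero := by rw [Nat.card_congr (subgroupOfEquivOfLe hT).toEquiv, hT16]
      odd_index := hTodd
      le := fun a ha => hVT ha
      card_four := by rw [Nat.card_congr (subgroupOfEquivOfLe hVC).toEquiv, hV4]
      sq := fun a ha => Subtype.ext (by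
        show (a : G) * a = 1
        rw [← pow_two]; exact D.elem.2 _ (hVP ha))
      r_not := hrV
      z_of_mem := fun v hv hv1 => D.pure _ (hVP hv) fun e => hv1 (Subtype.ext e)
      mem_of_z := fun v hv hz => hTV _ hv hz
      z_conj := fun g v hz => hz.trans (isConj_iff.2 ⟨(g : G), rfl⟩)
      z_ord := fun v hz => ⟨Subtype.ext (hzord _ hz).1,
        fun e => (hzord _ hz).2 (congrArg Subtype.val e)⟩
      w_mem := hwT
      w_sq := Subtype.ext hw2
      w_not := hwz
      w_not' := hwV
      wr_not := hwrV }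
  obtain ⟨A, iA, τ, hA, hidx, -, -, hτZ⟩ := hpre.exists_kernel
  set K := τ.ker with hK
  have hVK : V.subgroupOf C ≤ K := fun v hv => by
    by_cases e : v = 1
    · exact e ▸ one_mem K
    · exact hτZ v (hpre.z_of_mem v hv e)
  -- the index of `V` in `K` is the index of `T` in `C`
  have hrel : Odd ((V.subgroupOf C).relIndex K) := by
    have h1 := (V.subgroupOf C).card_mul_index
    have h2 := relIndex_mul_index hVK
    have h3 := (T.subgroupOf C).card_mul_index
    rw [hpre.card_four, ← h2, hidx] at h1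
    rw [hpre.card_zero] at h3
    have h4 : (V.subgroupOf C).relIndex K = (T.subgroupOf C).index := by omega
    rw [h4]
    exact hTodd
  refine D.balData.fix_le_second (K := K.map C.subtype) D.r_ord D.r_not hVP
    ⟨Signalizer.elemAb_of_le D.elem hVP, by rw [hV4]; norm_num⟩
    (fun v hv => ⟨⟨v, hVC hv⟩, hVK hv, rfl⟩) (map_subtype_le _) ?_ (fun a ha ho => ?_) ?_
  · refine Signalizer.le_normalizer_of_conj_mem ?_
    rintro c hc _ ⟨k, hk, rfl⟩
    exact ⟨⟨c, hc⟩ * k * ⟨c, hc⟩⁻¹, (MonoidHom.normal_ker τ).conj_mem k hk _, rfl⟩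
  · refine ⟨⟨a, mem_centralizer_singleton_iff.2 ha⟩, MonoidHom.mem_ker.2 ?_, rfl⟩
    set a' : C := ⟨a, mem_centralizer_singleton_iff.2 ha⟩ with ha'
    have h4 : orderOf (τ a') ∣ 4 := hA ▸ orderOf_dvd_natCard _
    have h5 : orderOf (τ a') ∣ orderOf a := by
      rw [show orderOf a = orderOf a' from (Subgroup.orderOf_coe a')]
      exact orderOf_map_dvd τ a'
    rw [← orderOf_eq_one_iff]
    exact Nat.eq_one_of_dvd_coprimes ((Nat.coprime_two_left.2 ho).pow_left 2) h4 h5
  · have hVmap : (V.subgroupOf C).map C.subtype = V := map_subgroupOf_eq_of_le hVC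
    rw [← hVmap, relIndex_map_map_of_injective _ _ C.subtype_injective]
    exact hrel

theorem fix_second (D : CoreData S z P r) :
    ∀ x ∈ S, orderOf x = 2 → ¬ IsConj z x →
      gen P ⊓ centralizer ({x} : Set G) ≤ Cfsg.centralizerPPrimeCore 2 x := by
  intro x hxS hx hnz y hy
  obtain ⟨g, hg, rfl⟩ := D.others x hxS hx hnz
  have h1 : g⁻¹ * y * g ∈ gen P := by
    simpa using (mem_normalizer_iff.1 (inv_mem (D.mgen_le hg)) y).1 hy.1
  have h2 : Commute (g⁻¹ * y * g) r := by
    have := (SemiconjBy.conj_iff (b := g⁻¹)).2 (mem_centralizer_singleton_iff.1 hy.2 :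
      Commute y (g * r * g⁻¹))
    simpa [Commute, mul_assoc] using this
  rw [← Signalizer.map_conj_centralizerPPrimeCore]
  exact ⟨_, D.fix_r ⟨h1, mem_centralizer_singleton_iff.2 h2⟩, by simp [mul_assoc]⟩

end CoreData

/-- All the cores are trivial. -/
theorem cores_bot [IsSimpleGroup G] (hna : ¬ IsMulCommutative G) {S : Sylow 2 G} {P : Subgroup G}
    {z r : G} (D : CoreData S z P r) {t : G} (ht : orderOf t = 2) :
    Cfsg.centralizerPPrimeCore 2 t = ⊥ :=
  D.balData.core_bot hna D.fix_second ht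

/-- The core of the central involution is trivial. -/
theorem core_bot [IsSimpleGroup G] (hna : ¬ IsMulCommutative G) {S : Sylow 2 G} {P : Subgroup G}
    {z r : G} (D : CoreData S z P r) : Cfsg.centralizerPPrimeCore 2 z = ⊥ :=
  cores_bot hna D D.ord

end Cfsg.Agent.TwelveType
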