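import Cfsg.Agent.Lib.TwelveType.Basic
import Cfsg.Agent.Lib.ZStar.Apply
import Cfsg.Agent.Lib.ZStar.Unique
import Cfsg.Agent.Lib.CoreKilling.RankTwo.Fusion
import Cfsg.Agent.Lib.TwoTimesPSL.Transfer
import Cfsg.Agent.S0111

/-
Fusion of involutions in a simple group with a Sylow 2-subgroup of M12 type and two classes of
involutions (helper21).

* `SF.exists_fused` : after an exchange of two labels, the conjugates of the central involution
  are the involutions labelled `z`, `one`, `p` and perhaps `six`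
-/

set_option autoImplicit false
set_option synthInstance.maxSize 4096

open Subgroup

namespace Cfsg.Agent.TwelveType

variable {G : Type*} [Group G] {S : Sylow 2 G}

namespace SF

variable (F : SF S)

/-- `φ a` is conjugate to the central involution. -/
def B (a : El) : Prop := IsConj F.z (F.φ a)

theorem z_twPR : F.twPR.z = F.z := congrArg F.φ (by decide +kernel : swapPR zE = zE)

theorem z_tw45 : F.tw45.z = F.z := congrArg F.φ (by decide +kernel : swap45 zE = zE)

theorem B_congr {a b : El} (ha : lab a ≠ .none) (h : lab a = lab b) : F.B a ↔ F.B b :=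
  ⟨fun hB => hB.trans (F.isConj_of_lab ha h), fun hB => hB.trans (F.isConj_of_lab ha h).symm⟩

theorem B_of_conj {a b : El} (ha : F.B a) (h : IsConj (F.φ a) (F.φ b)) : F.B b := ha.trans h

theorem S_le : (S : Subgroup G) ≤ centralizer ({F.z} : Set G) := fun _ hs =>
  mem_centralizer_singleton_iff.2 (F.z_comm hs).eq

theorem exists_lab (l : Lab) (hl : l ≠ .none) : ∃ a, lab a = l := by
  have h : ∀ l ∈ ([.z, .one, .p, .r, .four, .five, .six] : List Lab), ∃ a ∈ els, lab a = l := by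
    decide +kernel
  obtain ⟨a, -, ha⟩ := h l (by cases l <;> simp_all)
  exact ⟨a, ha⟩

variable [Finite G]

/-- A 2-group in `C(z)` is conjugate into `S` inside `C(z)`. -/
theorem conj_into {T : Subgroup G} (hT : IsPGroup 2 T) (hle : ∀ t ∈ T, Commute t F.z) :
    ∃ c, Commute c F.z ∧ ∀ t ∈ T, c * t * c⁻¹ ∈ S := by
  haveI : Fact (Nat.Prime 2) := ⟨Nat.prime_two⟩
  have hTC : T ≤ centralizer ({F.z} : Set G) := fun t ht =>
    mem_centralizer_singleton_iff.2 (hle t ht).eq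
  set C := centralizer ({F.z} : Set G) with hC
  obtain ⟨P, hP⟩ := (hT.of_equiv (subgroupOfEquivOfLe hTC).symm).exists_le_sylow
  obtain ⟨c, hc⟩ := MulAction.exists_smul_eq C P (S.subtype F.S_le)
  refine ⟨c, mem_centralizer_singleton_iff.1 c.2, fun t ht => ?_⟩
  have h1 : (⟨t, hTC ht⟩ : C) ∈ (P : Subgroup C) := hP ht
  have h2 : MulAut.conj c ⟨t, hTC ht⟩ ∈ (S.subtype F.S_le : Subgroup C) :=
    hc ▸ ⟨_, h1, rfl⟩
  rw [Sylow.coe_subtype, mem_subgroupOf] at h2
  exact h2

theorem to_z {y : El} (hy : F.B y) : ∃ g, g * F.φ y * g⁻¹ = F.z ∧ ∀ t ∈ F.cS y, g * t * g⁻¹ ∈ S := by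
  obtain ⟨h, hh⟩ := isConj_iff.1 hy.symm
  obtain ⟨c, hcz, hc⟩ := F.conj_into ((F.cS_two y).map (MulAut.conj h).toMonoidHom) (by
    rintro _ ⟨t, ht, rfl⟩
    have : Commute t (F.φ y) := mem_centralizer_singleton_iff.1 (F.cS_le y ht)
    rw [← hh]
    exact this.map (MulAut.conj h).toMonoidHom)
  refine ⟨c * h, ?_, fun t ht => ?_⟩
  · calc c * h * F.φ y * (c * h)⁻¹ = c * (h * F.φ y * h⁻¹) * c⁻¹ := by group
      _ = F.z := by rw [hh, hcz.eq, mul_inv_cancel_right]
  · have := hc (h * t * h⁻¹) ⟨t, ht, rfl⟩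
    rwa [show c * h * t * (c * h)⁻¹ = c * (h * t * h⁻¹) * c⁻¹ by group]

omit [Finite G] in
theorem φ_mem_cS {a b : El} (h : b ∈ cenE a) : F.φ b ∈ F.cS a :=
  F.mem_cS.2 ⟨b, rfl, F.mem_cenE.1 h⟩

omit [Finite G] in
theorem z_mem_cS (a : El) : F.z ∈ F.cS a := F.mem_cS.2 ⟨zE, rfl, F.z_comm' a⟩

omit [Finite G] in
/-- An element moving `φ y` to `z` moves the centraliser into that of the image of `z`. -/
theorem image_comm {y x b c : El} {g : G} (hb : b ∈ cenE y) (hx : g * F.z * g⁻¹ = F.φ x)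
    (hc : g * F.φ b * g⁻¹ = F.φ c) : c ∈ cenE x := by
  have _ := hb
  rw [F.mem_cenE, ← hx, ← hc]
  exact (F.z_comm' b).symm.map (MulAut.conj g).toMonoidHom

omit [Finite G] in
theorem image_z {y : El} (hy : lab y ≠ .none) (h6 : lab y ≠ .six) (hyz : lab y ≠ .z) {g : G}
    (hg : g * F.φ y * g⁻¹ = F.z) (hsub : ∀ t ∈ F.cS y, g * t * g⁻¹ ∈ S) :
    ∃ x, lab x = .one ∧ g * F.z * g⁻¹ = F.φ x := by
  obtain ⟨w, -, hw, hw2⟩ := z_sq y (mem_els y) hy h6
  obtain ⟨b, hb⟩ := F.surj _ (hsub _ (F.mem_cS.2 ⟨w, rfl, F.commute_iff.2 hw⟩))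
  have hsq : F.φ (sm b b) = g * F.z * g⁻¹ := by
    rw [← F.mul, hb, conj_mul, F.mul, hw2]
    rfl
  refine ⟨sm b b, ?_, hsq.symm⟩
  have hI : isI (sm b b) = true := by
    have h2 : orderOf (F.φ (sm b b)) = 2 := by rw [hsq, Involution.orderOf_conj, F.orderOf_z]
    have h3 := F.orderOf_eq_two.1 h2
    rwa [Ne, lab_none _ (mem_els _), Bool.not_eq_false] at h3
  rcases sq_invol b (mem_els b) hI with h | h
  · exfalso
    rw [h] at hsq
    have : g * F.φ y * g⁻¹ = g * F.z * g⁻¹ := hg.trans hsq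
    have hyE : y = zE := F.inj (mul_left_cancel (mul_right_cancel this))
    exact hyz (hyE ▸ lab_z.1)
  · exact h

omit [Finite G] in
/-- Thompson's transfer for a maximal subgroup of the model. -/
theorem transfer_out [Finite G] [IsSimpleGroup G] (hna : ¬ IsMulCommutative G) (f : El → Bool)
    (hf : ∀ a b, f (sm a b) = (f a == f b)) {a : El} (ha : lab a ≠ .none) (hfa : f a = false) :
    ∃ b, f b = true ∧ lab b ≠ .none ∧ IsConj (F.φ a) (F.φ b) := by
  have hf1 : f oneE = true := by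
    have := hf oneE oneE
    rw [show sm oneE oneE = oneE by decide +kernel] at this
    rw [this]; simp
  let M : Subgroup G :=
    { carrier := {x | ∃ b, F.φ b = x ∧ f b = true}
      one_mem' := ⟨oneE, F.map_one, hf1⟩
      mul_mem' := by
        rintro _ _ ⟨b, rfl, hb⟩ ⟨c, rfl, hc⟩
        exact ⟨sm b c, (F.mul b c).symm, by rw [hf, hb, hc]; rfl⟩
      inv_mem' := by
        rintro _ ⟨b, rfl, hb⟩
        refine ⟨einv b, (F.map_inv b).symm, ?_⟩
        have := hf b (einv b)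
        rw [(einv_spec b (mem_els b)).1, hf1, hb] at this
        simpa using this.symm }
  have hMS : M ≤ (S : Subgroup G) := by rintro _ ⟨b, rfl, -⟩; exact F.mem b
  have hmem : ∀ b, F.φ b ∈ M ↔ f b = true := fun b =>
    ⟨fun ⟨c, hc, h⟩ => F.inj hc ▸ h, fun h => ⟨b, rfl, h⟩⟩
  have hidx : M.relIndex (S : Subgroup G) = 2 := by
    refine index_eq_two_iff.2 ⟨⟨F.φ a, F.mem a⟩, fun ⟨x, hx⟩ => ?_⟩
    obtain ⟨b, rfl⟩ := F.surj x hx
    simp only [mem_subgroupOf, Subgroup.coe_mul, F.mul, hmem, hf, hfa]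
    cases f b <;> simp [Xor']
  have ha' : F.φ a ∉ M := fun h => by
    rw [hmem, hfa] at h; exact Bool.false_ne_true h
  rcases S0111.result S M hMS hidx (F.φ a) (F.orderOf_eq_two.2 ha) (F.mem a) ha' with
    ⟨N, hN, hN2, -⟩ | ⟨g, hg⟩
  · exact absurd hN2 (TwoTimesPSL.noIndexTwo_of_simple hna N)
  · obtain ⟨b, hb, hfb⟩ := hg
    exact ⟨b, hfb, F.orderOf_eq_two.1 (by rw [hb, Involution.orderOf_conj]; exact F.orderOf_eq_two.2 ha),
      isConj_iff.2 ⟨g, hb.symm⟩⟩

theorem exists_B [IsSimpleGroup G] (hna : ¬ IsMulCommutative G) :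
    ∃ a, lab a ≠ .none ∧ lab a ≠ .z ∧ F.B a := by
  have hc : Subgroup.center G = ⊥ :=
    (IsSimpleGroup.eq_bot_or_eq_top_of_normal _ inferInstance).resolve_right fun h =>
      hna ⟨⟨fun a b => (Subgroup.mem_center_iff.1 (h ▸ mem_top b) a)⟩⟩
  have hO : Cfsg.oddCore G = ⊥ :=
    CoreKilling.RankTwo.oddCore_eq_bot_of_even (F.orderOf_z ▸ orderOf_dvd_natCard F.z)
  have hni : ¬ Cfsg.IsIsolatedInvolution F.z := fun h => by
    have := ZStar.isolated_mem_center ZStar.uniqueInvolution h hO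
    rw [hc, mem_bot] at this
    exact Involution.ne_one F.orderOf_z this
  rw [Cfsg.IsIsolatedInvolution, not_and] at hni
  obtain ⟨g, hg⟩ := not_forall.1 (hni F.orderOf_z)
  obtain ⟨hgz, hne⟩ := Classical.not_imp.1 hg
  obtain ⟨c, hcz, hc'⟩ := F.conj_into (T := zpowers (g * F.z * g⁻¹))
    (IsPGroup.of_card (n := 1) (by
      rw [Nat.card_zpowers, Involution.orderOf_conj, F.orderOf_z, pow_one]))
    (fun t ht => by
      obtain ⟨k, rfl⟩ := mem_zpowers_iff.1 ht
      exact (hgz.symm).zpow_left k)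
  obtain ⟨a, ha, hl⟩ := F.exists_label (hc' _ (mem_zpowers _))
    (by rw [Involution.orderOf_conj, Involution.orderOf_conj, F.orderOf_z])
  refine ⟨a, hl, fun hz => hne ?_, isConj_iff.2 ⟨c * g, by rw [ha]; group⟩⟩
  rw [F.eq_z hz] at ha
  have : c * (g * F.z * g⁻¹) * c⁻¹ = c * F.z * c⁻¹ := by
    rw [← ha, hcz.eq, mul_inv_cancel_right]
  exact mul_left_cancel (mul_right_cancel this)

variable [IsSimpleGroup G] (hna : ¬ IsMulCommutative G)
include hna

theorem B_one {u : El} (hu : lab u = .one) : F.B u := by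
  obtain ⟨y, hy, hyz, hB⟩ := F.exists_B hna
  suffices ∃ v, lab v = .one ∧ F.B v by
    obtain ⟨v, hv, hBv⟩ := this
    exact (F.B_congr (by rw [hv]; decide) (hv.trans hu.symm)).1 hBv
  have key : ∀ {a : El}, lab a ≠ .none → lab a ≠ .six → lab a ≠ .z → F.B a →
      ∃ v, lab v = .one ∧ F.B v := fun {a} ha h6 hz hBa => by
    obtain ⟨g, hg, hsub⟩ := F.to_z hBa
    obtain ⟨x, hx, hgx⟩ := F.image_z ha h6 hz hg hsub
    exact ⟨x, hx, isConj_iff.2 ⟨g, hgx⟩⟩
  by_cases h6 : lab y ≠ .six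
  · exact key hy h6 hyz hB
  rw [not_not] at h6
  obtain ⟨g, hg, hsub⟩ := F.to_z hB
  obtain ⟨x, hx, hxl⟩ := F.exists_label (hsub _ (F.z_mem_cS y))
    (by rw [Involution.orderOf_conj, F.orderOf_z])
  have hBx : F.B x := isConj_iff.2 ⟨g, hx.symm⟩
  have hxz : lab x ≠ .z := fun h => by
    rw [F.eq_z h] at hx
    have e : g * F.φ y * g⁻¹ = g * F.z * g⁻¹ := hg.trans hx
    exact hyz ((F.inj (mul_left_cancel (mul_right_cancel e))) ▸ lab_z.1)
  by_cases hx6 : lab x ≠ .six
  · exact key hxl hx6 hxz hBx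
  rw [not_not] at hx6
  obtain ⟨-, v, hv, hvl⟩ := six_cen x (mem_els x) hx6
  set T := (F.cS y).map (MulAut.conj g).toMonoidHom with hT
  have hTle : T ≤ F.cS x := by
    rintro _ ⟨t, ht, rfl⟩
    obtain ⟨b, rfl, hb⟩ := F.mem_cS.1 ht
    obtain ⟨c, hc⟩ := F.surj _ (hsub _ ht)
    exact F.mem_cS.2 ⟨c, hc, F.mem_cenE.1 (F.image_comm (F.mem_cenE.2 hb) hx.symm hc.symm)⟩
  have heq : T = F.cS x := eq_of_le_of_card_ge hTle (by
    rw [hT, card_map_of_injective (MulAut.conj g).injective, F.card_cS, F.card_cS,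
      cen_card y (mem_els y) hy, cen_card x (mem_els x) hxl, h6, hx6])
  have key2 : ∀ w : El, w ∈ cenE x → lab w = .one →
      (∃ v, lab v = .one ∧ F.B v) ∨ ∃ p, lab p = .one ∧ g * F.φ p * g⁻¹ = F.φ w := by
    intro w hw hwl
    obtain ⟨t, ht, htw⟩ := heq.ge (F.φ_mem_cS hw)
    obtain ⟨p, rfl, hp⟩ := F.mem_cS.1 ht
    have htw' : g * F.φ p * g⁻¹ = F.φ w := htw
    rcases (six_cen y (mem_els y) h6).1 p (F.mem_cenE.2 hp) with h | h | h | h
    · rw [h, F.map_one, mul_one, mul_inv_cancel] at htw'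
      rw [F.eq_one_iff.1 htw'.symm] at hwl
      exact absurd hwl (by decide +kernel)
    · rw [F.eq_z h, ← hx] at htw'
      rw [F.inj htw'] at hx6
      rw [hx6] at hwl
      cases hwl
    · exact Or.inr ⟨p, h, htw'⟩
    · exact Or.inl ⟨w, hwl, ((F.B_congr hy (h6.trans h.symm)).1 hB).trans (isConj_iff.2 ⟨g, htw'⟩)⟩
  have hzv : lab (sm zE v) = .one := (one_cen v (mem_els v) hvl).2.1
  have hzvc : sm zE v ∈ cenE x := by
    rw [F.mem_cenE, ← F.mul]
    exact (F.z_comm' x).mul_right (F.mem_cenE.1 hv)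
  rcases key2 v hv hvl with h | ⟨p, hp, hpv⟩
  · exact h
  rcases key2 _ hzvc hzv with h | ⟨p', hp', hpv'⟩
  · exact h
  exfalso
  rcases (one_cen p (mem_els p) hp).2.2 p' (mem_els p') hp' with e | e
  · rw [e, hpv] at hpv'
    have h1 := hpv'
    rw [← F.mul] at h1
    exact Involution.ne_one F.orderOf_z (mul_eq_right.1 h1.symm)
  · rw [e, ← F.mul, ← conj_mul, hpv, show g * F.φ zE * g⁻¹ = F.φ x from hx.symm, ← F.mul] at hpv'
    exact hxz ((F.inj (mul_right_cancel hpv')) ▸ lab_z.1)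

/-- An element normalising `P1` and moving `z`. -/
theorem exists_shift : ∃ g, (∃ x, lab x = .one ∧ g * F.z * g⁻¹ = F.φ x) ∧
    (∀ u, lab u = .z ∨ lab u = .one → ∃ v, (lab v = .z ∨ lab v = .one) ∧ g * F.φ u * g⁻¹ = F.φ v) ∧
    ∃ a b, (lab a = .p ∨ lab a = .r) ∧ lab b = .six ∧ g * F.φ a * g⁻¹ = F.φ b := by
  obtain ⟨u, hu⟩ := exists_lab .one (by decide)
  obtain ⟨g, hg, hsub⟩ := F.to_z (F.B_one hna hu)
  obtain ⟨x, hx, hgx⟩ := F.image_z (by rw [hu]; decide) (by rw [hu]; decide) (by rw [hu]; decide)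
    hg hsub
  have hVmove : ∀ v, lab v = .one → ∃ w, (lab w = .z ∨ lab w = .one) ∧
      g * F.φ v * g⁻¹ = F.φ w := fun v hv => by
    rcases (one_cen u (mem_els u) hu).2.2 v (mem_els v) hv with rfl | rfl
    · exact ⟨zE, Or.inl lab_z.1, hg⟩
    · refine ⟨sm zE x, Or.inr (one_cen x (mem_els x) hx).2.1, ?_⟩
      rw [← F.mul, ← conj_mul, hg, show g * F.φ zE * g⁻¹ = F.φ x from hgx, ← F.mul]
      exact (F.z_comm' x).eq
  refine ⟨g, ⟨x, hx, hgx⟩, fun v hv => ?_, ?_⟩
  · rcases hv with h | h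
    · exact ⟨x, Or.inr hx, by rw [F.eq_z h, hgx]⟩
    · exact hVmove v h
  have himg : ∀ a, (lab a = .p ∨ lab a = .r) → ∃ b, g * F.φ a * g⁻¹ = F.φ b ∧
      (lab b = .p ∨ lab b = .r ∨ lab b = .six) := by
    intro a ha
    have hac : a ∈ cenE u := by
      have : ∀ a ∈ els, (lab a = .p ∨ lab a = .r) → ∀ u ∈ els, lab u = .one → a ∈ cenE u := by
        decide +kernel
      exact this a (mem_els a) ha u (mem_els u) hu
    obtain ⟨b, hb⟩ := F.surj _ (hsub _ (F.φ_mem_cS hac))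
    refine ⟨b, hb.symm, ?_⟩
    have hbn : lab b ≠ .none := F.orderOf_eq_two.1 (by
      rw [hb, Involution.orderOf_conj, F.orderOf_eq_two]
      rcases ha with h | h <;> rw [h] <;> decide)
    have hbP : inP1 b = true := by
      have h2 : b ∈ cenE x := F.image_comm hac hgx hb.symm
      exact ((one_cen x (mem_els x) hx).1 b (mem_els b)).1 (F.commute_iff.1 (F.mem_cenE.1 h2))
    rcases P1_invol b (mem_els b) hbP with h | h | h | h | h | h
    · exact absurd h hbn
    · exfalso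
      have e : g * F.φ a * g⁻¹ = g * F.φ u * g⁻¹ := by rw [hg, ← hb, F.eq_z h]
      have := F.inj (mul_left_cancel (mul_right_cancel e))
      rw [this, hu] at ha
      rcases ha with h' | h' <;> cases h'
    · exfalso
      rcases (one_cen x (mem_els x) hx).2.2 b (mem_els b) h with e | e
      · have e' : g * F.φ a * g⁻¹ = g * F.z * g⁻¹ := by rw [hgx, ← hb, e]
        have := F.inj (mul_left_cancel (mul_right_cancel e'))
        rw [this, lab_z.1] at ha
        rcases ha with h' | h' <;> cases h'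
      · have e' : g * F.φ a * g⁻¹ = g * F.φ (sm u zE) * g⁻¹ := by
          rw [← F.mul u zE, ← conj_mul, hg, show g * F.φ zE * g⁻¹ = F.φ x from hgx, ← hb, e, ← F.mul]
          rfl
        have h2 := F.inj (mul_left_cancel (mul_right_cancel e'))
        rw [h2, ← z_central u (mem_els u), (one_cen u (mem_els u) hu).2.1] at ha
        rcases ha with h' | h' <;> cases h'
    · exact Or.inl h
    · exact Or.inr (Or.inl h)
    · exact Or.inr (Or.inr h)
  obtain ⟨p, hp⟩ := exists_lab .p (by decide)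
  obtain ⟨e, he⟩ := exists_lab .r (by decide)
  obtain ⟨b, hgb, hb⟩ := himg p (Or.inl hp)
  obtain ⟨c, hgc, hc⟩ := himg e (Or.inr he)
  by_cases h6 : lab b = .six
  · exact ⟨p, b, Or.inl hp, h6, hgb⟩
  by_cases h6' : lab c = .six
  · exact ⟨e, c, Or.inr he, h6', hgc⟩
  exfalso
  have hsq : F.φ (sm (sm b c) (sm b c)) = F.φ x := by
    rw [← hgx, ← F.mul, ← F.mul, ← hgb, ← hgc, conj_mul, conj_mul]
    show g * (F.φ p * F.φ e * (F.φ p * F.φ e)) * g⁻¹ = _
    rw [F.mul, F.mul, p_r_ne p (mem_els p) hp e (mem_els e) he]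
    rfl
  rcases p_r_sq b (mem_els b) (hb.elim Or.inl fun h => h.elim Or.inr fun h' => absurd h' h6)
      c (mem_els c) (hc.elim Or.inl fun h => h.elim Or.inr fun h' => absurd h' h6') with h | ⟨-, h⟩
  · rw [h] at hsq; rw [← F.inj hsq] at hx; exact absurd hx (by decide +kernel)
  · rw [h] at hsq; rw [← F.inj hsq, lab_z.1] at hx; cases hx

variable (htwo : ∃ s t : G, orderOf s = 2 ∧ orderOf t = 2 ∧ ¬ IsConj s t)
include htwo

omit hna [IsSimpleGroup G] in
theorem false_of_all (h : ∀ a, lab a ≠ .none → F.B a) : False := by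
  obtain ⟨s, t, hs, ht, hst⟩ := htwo
  have key : ∀ x : G, orderOf x = 2 → IsConj x F.z := fun x hx => by
    obtain ⟨g, a, hga, hla, -⟩ := F.exists_move hx (T := ⊥) (IsPGroup.of_bot)
      (fun t ht => by rw [mem_bot.1 ht]; exact Commute.one_left x)
    exact (isConj_iff.2 ⟨g, hga⟩).trans (h a hla).symm
  exact hst ((key s hs).trans (key t ht).symm)

theorem not_B_four {y : El} (hy : lab y = .four) : ¬ F.B y := by
  intro hB
  obtain ⟨g, hg, hsub⟩ := F.to_z hB
  obtain ⟨x, hx, hgx⟩ := F.image_z (by rw [hy]; decide) (by rw [hy]; decide) (by rw [hy]; decide)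
    hg hsub
  obtain ⟨⟨p, hp, hpl, q, hq, hql, hpq⟩, ⟨e, he, hel, q', hq', hql', heq⟩, -, -, hzy⟩ :=
    four_cen y (mem_els y) hy
  have himg : ∀ a, a ∈ cenE y → (lab a = .p ∨ lab a = .r ∨ lab a = .five) →
      ∃ b, g * F.φ a * g⁻¹ = F.φ b ∧ inP1 b = true ∧
        (lab b = .p ∨ lab b = .r ∨ lab b = .six) := by
    intro a hac ha
    obtain ⟨b, hb⟩ := F.surj _ (hsub _ (F.φ_mem_cS hac))
    have hbP : inP1 b = true := ((one_cen x (mem_els x) hx).1 b (mem_els b)).1
      (F.commute_iff.1 (F.mem_cenE.1 (F.image_comm hac hgx hb.symm)))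
    refine ⟨b, hb.symm, hbP, ?_⟩
    have hbn : lab b ≠ .none := F.orderOf_eq_two.1 (by
      rw [hb, Involution.orderOf_conj, F.orderOf_eq_two]
      rcases ha with h | h | h <;> rw [h] <;> decide)
    rcases P1_invol b (mem_els b) hbP with h | h | h | h | h | h
    · exact absurd h hbn
    · exfalso
      have e' : g * F.φ a * g⁻¹ = g * F.φ y * g⁻¹ := by rw [hg, ← hb, F.eq_z h]
      rw [F.inj (mul_left_cancel (mul_right_cancel e')), hy] at ha
      rcases ha with h' | h' | h' <;> cases h'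
    · exfalso
      rcases (one_cen x (mem_els x) hx).2.2 b (mem_els b) h with e' | e'
      · have e2 : g * F.φ a * g⁻¹ = g * F.z * g⁻¹ := by rw [hgx, ← hb, e']
        rw [F.inj (mul_left_cancel (mul_right_cancel e2)), lab_z.1] at ha
        rcases ha with h' | h' | h' <;> cases h'
      · have e2 : g * F.φ a * g⁻¹ = g * F.φ (sm y zE) * g⁻¹ := by
          rw [← F.mul y zE, ← conj_mul, hg, show g * F.φ zE * g⁻¹ = F.φ x from hgx, ← hb, e', ← F.mul]
          rfl
        rw [F.inj (mul_left_cancel (mul_right_cancel e2)), ← z_central y (mem_els y), hzy] at ha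
        rcases ha with h' | h' | h' <;> cases h'
    · exact Or.inl h
    · exact Or.inr (Or.inl h)
    · exact Or.inr (Or.inr h)
  obtain ⟨bp, hbp, hbpP, hbpl⟩ := himg p hp (Or.inl hpl)
  obtain ⟨bq, hbq, hbqP, hbql⟩ := himg q hq (Or.inr (Or.inr hql))
  obtain ⟨be, hbe, hbeP, hbel⟩ := himg e he (Or.inr (Or.inl hel))
  obtain ⟨bq', hbq', hbqP', hbql'⟩ := himg q' hq' (Or.inr (Or.inr hql'))
  have hcomm : ∀ {a a' b b' : El}, g * F.φ a * g⁻¹ = F.φ b → g * F.φ a' * g⁻¹ = F.φ b' →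
      sm a a' = sm a' a → sm b b' = sm b' b := fun {a a' b b'} h h' hc => by
    rw [← F.commute_iff, ← h, ← h']
    exact (F.commute_iff.2 hc).map (MulAut.conj g).toMonoidHom
  have hl1 := P1_comm bp (mem_els _) hbpP hbpl bq (mem_els _) hbqP hbql (hcomm hbp hbq hpq)
  have hl2 := P1_comm be (mem_els _) hbeP hbel bq' (mem_els _) hbqP' hbql' (hcomm hbe hbq' heq)
  have hne : ∀ {b : El}, (lab b = .p ∨ lab b = .r ∨ lab b = .six) → lab b ≠ .none := by
    intro b h; rcases h with h | h | h <;> rw [h] <;> decide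
  -- `p`, `q`, `q'`, `e` are conjugate
  have cpq : IsConj (F.φ p) (F.φ q) :=
    ((isConj_iff.2 ⟨g, hbp⟩).trans (F.isConj_of_lab (hne hbpl) hl1)).trans
      (isConj_iff.2 ⟨g, hbq⟩).symm
  have ceq : IsConj (F.φ e) (F.φ q') :=
    ((isConj_iff.2 ⟨g, hbe⟩).trans (F.isConj_of_lab (hne hbel) hl2)).trans
      (isConj_iff.2 ⟨g, hbq'⟩).symm
  have cpe : IsConj (F.φ p) (F.φ e) :=
    (cpq.trans (F.isConj_of_lab (by rw [hql]; decide) (hql.trans hql'.symm))).trans ceq.symm
  have h6 : ∃ s, lab s = .six ∧ IsConj (F.φ p) (F.φ s) := by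
    by_cases h : lab bp = .six
    · exact ⟨bp, h, isConj_iff.2 ⟨g, hbp⟩⟩
    by_cases h' : lab be = .six
    · exact ⟨be, h', cpe.trans (isConj_iff.2 ⟨g, hbe⟩)⟩
    exfalso
    have hsq : F.φ (sm (sm bp be) (sm bp be)) = F.φ x := by
      rw [← hgx, ← F.mul, ← F.mul, ← hbp, ← hbe, conj_mul, conj_mul]
      show g * (F.φ p * F.φ e * (F.φ p * F.φ e)) * g⁻¹ = _
      rw [F.mul, F.mul, p_r_ne p (mem_els p) hpl e (mem_els e) hel]
      rfl
    rcases p_r_sq bp (mem_els bp) (hbpl.elim Or.inl fun a => a.elim Or.inr fun a' => absurd a' h)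
        be (mem_els be) (hbel.elim Or.inl fun a => a.elim Or.inr fun a' => absurd a' h') with h2 | ⟨-, h2⟩
    · rw [h2] at hsq; rw [← F.inj hsq] at hx; exact absurd hx (by decide +kernel)
    · rw [h2] at hsq; rw [← F.inj hsq, lab_z.1] at hx; cases hx
  obtain ⟨s, hs, cps⟩ := h6
  have hpn : lab p ≠ .none := by rw [hpl]; decide
  have hC : ∀ b, (lab b = .p ∨ lab b = .r ∨ lab b = .five ∨ lab b = .six) →
      IsConj (F.φ p) (F.φ b) := by
    intro b hb
    rcases hb with h | h | h | h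
    · exact F.isConj_of_lab hpn (hpl.trans h.symm)
    · exact cpe.trans (F.isConj_of_lab (by rw [hel]; decide) (hel.trans h.symm))
    · exact cpq.trans (F.isConj_of_lab (by rw [hql]; decide) (hql.trans h.symm))
    · exact cps.trans (F.isConj_of_lab (by rw [hs]; decide) (hs.trans h.symm))
  have hnp : ¬ F.B p := fun hBp => F.false_of_all htwo fun b hb => by
    cases hl : lab b with
    | none => exact absurd hl hb
    | z => rw [SF.B, F.eq_z hl]
    | one => exact F.B_one hna hl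
    | p => exact hBp.trans (hC b (Or.inl hl))
    | r => exact hBp.trans (hC b (Or.inr (Or.inl hl)))
    | five => exact hBp.trans (hC b (Or.inr (Or.inr (Or.inl hl))))
    | six => exact hBp.trans (hC b (Or.inr (Or.inr (Or.inr hl))))
    | four => exact (F.B_congr (by rw [hy]; decide) (hy.trans hl.symm)).1 hB
  obtain ⟨b, hfb, hbn, hcb⟩ := F.transfer_out hna inM
    (fun a b => M_mul a (mem_els a) b (mem_els b)) hpn
    ((M_lab p (mem_els p)).1 (Or.inl hpl))
  refine hnp (F.B_of_conj ?_ hcb.symm)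
  cases hl : lab b with
  | none => exact absurd hl hbn
  | z => rw [SF.B, F.eq_z hl]
  | one => exact F.B_one hna hl
  | four => exact (F.B_congr (by rw [hy]; decide) (hy.trans hl.symm)).1 hB
  | p => rw [(M_lab b (mem_els b)).1 (Or.inl hl)] at hfb; cases hfb
  | r => rw [(M_lab b (mem_els b)).1 (Or.inr (Or.inl hl))] at hfb; cases hfb
  | five => rw [(M_lab b (mem_els b)).1 (Or.inr (Or.inr (Or.inl hl)))] at hfb; cases hfb
  | six => rw [(M_lab b (mem_els b)).1 (Or.inr (Or.inr (Or.inr hl)))] at hfb; cases hfb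

theorem not_B_five {y : El} (hy : lab y = .five) : ¬ F.B y := by
  intro hB
  refine F.tw45.not_B_four hna htwo (y := swap45 y) ?_ ?_
  · rw [(swap45_spec y (mem_els y)).2, hy]; rfl
  · show IsConj F.tw45.z (F.φ (swap45 (swap45 y)))
    rw [F.z_tw45, (swap45_spec y (mem_els y)).1]
    exact hB

end SF

/-- The fusion of a group of M12 type. -/
structure SF.Fused (F : SF S) : Prop where
  b_one : ∀ a, lab a = .one → F.B a
  b_p : ∀ a, lab a = .p → F.B a
  not_r : ∀ a, lab a = .r → ¬ F.B a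
  not_four : ∀ a, lab a = .four ∨ lab a = .five → ¬ F.B a
  four_r : ∀ a b, (lab a = .four ∨ lab a = .five) → lab b = .r →
    ∃ g, Commute g F.z ∧ g * F.φ a * g⁻¹ = F.φ b
  shift : ∃ g, (∃ x, lab x = .one ∧ g * F.z * g⁻¹ = F.φ x) ∧
    (∀ u, lab u = .z ∨ lab u = .one → ∃ v, (lab v = .z ∨ lab v = .one) ∧ g * F.φ u * g⁻¹ = F.φ v) ∧
    ((∀ a, lab a = .six → F.B a) ∨
      ∃ a b, lab a = .r ∧ lab b = .six ∧ g * F.φ a * g⁻¹ = F.φ b ∧ ¬ F.B b)

namespace SF

variable (F : SF S) [Finite G] [IsSimpleGroup G] (hna : ¬ IsMulCommutative G)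
  (htwo : ∃ s t : G, orderOf s = 2 ∧ orderOf t = 2 ∧ ¬ IsConj s t)

include hna htwo

theorem four_options {y : El} (hy : lab y = .four ∨ lab y = .five) :
    ∃ b, (lab b = .p ∨ lab b = .r ∨ lab b = .six) ∧ IsConj (F.φ y) (F.φ b) := by
  have hyn : lab y ≠ .none := by rcases hy with h | h <;> rw [h] <;> decide
  have hny : ¬ F.B y := hy.elim (F.not_B_four hna htwo) (F.not_B_five hna htwo)
  obtain ⟨b, hfb, hbn, hcb⟩ := F.transfer_out hna inP1
    (fun a b => P1_mul a (mem_els a) b (mem_els b)) hyn (P1_lab y (mem_els y) hy)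
  refine ⟨b, ?_, hcb⟩
  rcases P1_invol b (mem_els b) hfb with h | h | h | h | h | h
  · exact absurd h hbn
  · exact absurd (F.B_of_conj (show F.B b by rw [SF.B, F.eq_z h]) hcb.symm) hny
  · exact absurd (F.B_of_conj (F.B_one hna h) hcb.symm) hny
  · exact Or.inl h
  · exact Or.inr (Or.inl h)
  · exact Or.inr (Or.inr h)

theorem four_pr {y : El} (hy : lab y = .four ∨ lab y = .five) :
    ∃ b, (lab b = .p ∨ lab b = .r) ∧ IsConj (F.φ y) (F.φ b) := by
  obtain ⟨b, hb, hcb⟩ := F.four_options hna htwo hy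
  rcases hb with h | h | h
  · exact ⟨b, Or.inl h, hcb⟩
  · exact ⟨b, Or.inr h, hcb⟩
  · obtain ⟨g, -, -, a, s, ha, hs, hg⟩ := F.exists_shift hna
    exact ⟨a, ha, (hcb.trans (F.isConj_of_lab (by rw [h]; decide) (h.trans hs.symm))).trans
      (isConj_iff.2 ⟨g, hg⟩).symm⟩

theorem cen_le_sixteen {a : El} (hna' : ¬ F.B a) {b : El} (hc : IsConj (F.φ a) (F.φ b))
    (hb : lab b ≠ .none) : (cenE b).length ≤ 16 := by
  rw [cen_card b (mem_els b) hb]
  cases hl : lab b with
  | none => exact absurd hl hb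
  | z => exact absurd (F.B_of_conj (show F.B b by rw [SF.B, F.eq_z hl]) hc.symm) hna'
  | one => exact absurd (F.B_of_conj (F.B_one hna hl) hc.symm) hna'
  | _ => simp

/-- One of the labels `p`, `r` is in the class of `z`. -/
theorem B_p_or_r : ∃ a, (lab a = .p ∨ lab a = .r) ∧ F.B a := by
  by_contra hno
  push Not at hno
  obtain ⟨y, hy⟩ := exists_lab .four (by decide)
  obtain ⟨c, hc, hyc⟩ := F.four_pr hna htwo (Or.inl hy)
  have hyn : lab y ≠ .none := by rw [hy]; decide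
  have hcn : lab c ≠ .none := by rcases hc with h | h <;> rw [h] <;> decide
  have hny := F.not_B_four hna htwo hy
  obtain ⟨g, -, hg⟩ := F.exists_onto hyn hcn hyc (n := 16)
    (by rw [cen_card y (mem_els y) hyn, hy])
    (by rw [cen_card c (mem_els c) hcn]; rcases hc with h | h <;> rw [h])
    (fun b hb => F.cen_le_sixteen hna htwo hny hb (F.orderOf_eq_two.1 (by
      rw [← Involution.orderOf_eq_of_isConj hb]; exact F.orderOf_eq_two.2 hyn)))
  obtain ⟨-, -, -, hnone, -⟩ := four_cen y (mem_els y) hy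
  have key : ∀ u, lab u = .one → g⁻¹ * F.φ u * g = F.z := by
    intro u hu
    have huc : u ∈ cenE c := by
      have : ∀ a ∈ els, (lab a = .p ∨ lab a = .r) → ∀ u ∈ els, lab u = .one → u ∈ cenE a := by
        decide +kernel
      exact this c (mem_els c) hc u (mem_els u) hu
    obtain ⟨t, ht, htu⟩ := hg.ge (F.φ_mem_cS huc)
    obtain ⟨b, rfl, hb⟩ := F.mem_cS.1 ht
    have htu' : g * F.φ b * g⁻¹ = F.φ u := htu
    have hBb : F.B b := F.B_of_conj (F.B_one hna hu) (isConj_iff.2 ⟨g, htu'⟩).symm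
    have hbn : lab b ≠ .none := F.orderOf_eq_two.1 (by
      rw [Involution.orderOf_eq_of_isConj (isConj_iff.2 ⟨g, htu'⟩)]
      exact F.orderOf_eq_two.2 (by rw [hu]; decide))
    rw [← htu', show g⁻¹ * (g * F.φ b * g⁻¹) * g = F.φ b by group]
    cases hl : lab b with
    | none => exact absurd hl hbn
    | z => exact F.eq_z hl
    | one => exact absurd hl (hnone b (F.mem_cenE.2 hb))
    | p => exact absurd hBb (hno b (Or.inl hl))
    | r => exact absurd hBb (hno b (Or.inr hl))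
    | four => exact absurd hBb (F.not_B_four hna htwo hl)
    | five => exact absurd hBb (F.not_B_five hna htwo hl)
    | six =>
      obtain ⟨k, -, -, a, s, ha, hs, hk⟩ := F.exists_shift hna
      exact absurd (F.B_of_conj ((F.B_congr (by rw [hl]; decide) (hl.trans hs.symm)).1 hBb)
        (isConj_iff.2 ⟨k, hk⟩).symm) (hno a ha)
  obtain ⟨u, hu⟩ := exists_lab .one (by decide)
  have h1 := key u hu
  have h2 := key _ (one_cen u (mem_els u) hu).2.1
  rw [← F.mul] at h2
  have e : F.φ zE * F.φ u = F.φ u :=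
    mul_left_cancel (mul_right_cancel (h2.trans h1.symm))
  exact Involution.ne_one F.orderOf_z (mul_eq_right.1 e)

theorem fused_of_p {p : El} (hp : lab p = .p) (hBp : F.B p) : F.Fused := by
  have hpB : ∀ a, lab a = .p → F.B a := fun a ha =>
    (F.B_congr (by rw [hp]; decide) (hp.trans ha.symm)).1 hBp
  obtain ⟨g, hgz, hgV, a₀, s₀, ha₀, hs₀, hg₀⟩ := F.exists_shift hna
  have hr : ∀ a, lab a = .r → ¬ F.B a := fun a ha hBa => by
    obtain ⟨y, hy⟩ := exists_lab .four (by decide)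
    obtain ⟨b, hb, hyb⟩ := F.four_pr hna htwo (Or.inl hy)
    refine F.not_B_four hna htwo hy (F.B_of_conj ?_ hyb.symm)
    rcases hb with h | h
    · exact hpB b h
    · exact (F.B_congr (by rw [ha]; decide) (ha.trans h.symm)).1 hBa
  have h45 : ∀ a, lab a = .four ∨ lab a = .five → ¬ F.B a := fun a ha =>
    ha.elim (F.not_B_four hna htwo) (F.not_B_five hna htwo)
  refine ⟨fun a => F.B_one hna, hpB, hr, h45, fun a b ha hb => ?_, g, hgz, hgV, ?_⟩
  · obtain ⟨c, hc, hac⟩ := F.four_pr hna htwo ha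
    have hc' : lab c = .r := hc.resolve_left fun h => h45 a ha (F.B_of_conj (hpB c h) hac.symm)
    have han : lab a ≠ .none := by rcases ha with h | h <;> rw [h] <;> decide
    have hbn : lab b ≠ .none := by rw [hb]; decide
    have hab : IsConj (F.φ a) (F.φ b) :=
      hac.trans (F.isConj_of_lab (by rw [hc']; decide) (hc'.trans hb.symm))
    obtain ⟨k, hk, hmap⟩ := F.exists_onto han hbn hab (n := 16)
      (by rw [cen_card a (mem_els a) han]; rcases ha with h | h <;> rw [h])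
      (by rw [cen_card b (mem_els b) hbn, hb])
      (fun d hd => F.cen_le_sixteen hna htwo (h45 a ha) hd (F.orderOf_eq_two.1 (by
        rw [← Involution.orderOf_eq_of_isConj hd]; exact F.orderOf_eq_two.2 han)))
    refine ⟨k, ?_, hk⟩
    obtain ⟨t, ht, htk⟩ : ∃ t, t ∈ cenE b ∧ k * F.z * k⁻¹ = F.φ t := by
      obtain ⟨t, ht, hc⟩ := F.mem_cS.1 (hmap.le ⟨F.z, F.z_mem_cS a, rfl⟩)
      exact ⟨t, F.mem_cenE.2 hc, ht.symm⟩
    have hcent : ∀ d ∈ cenE b, sm t d = sm d t := by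
      intro d hd
      obtain ⟨x, hx, hxd⟩ := hmap.ge (F.φ_mem_cS hd)
      rw [← F.commute_iff, ← htk, ← show k * x * k⁻¹ = F.φ d from hxd]
      exact (F.z_comm (inf_le_left (a := (S : Subgroup G)) hx)).symm.map (MulAut.conj k).toMonoidHom
    have hBt : F.B t := isConj_iff.2 ⟨k, htk⟩
    obtain ⟨-, -, hcen, hzr, -⟩ := r_cen b (mem_els b) hb
    rcases hcen t ht hcent with e | e | e | e
    · rw [e, F.map_one, conj_eq_one_iff] at htk
      exact absurd htk (Involution.ne_one F.orderOf_z)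
    · rw [e] at htk
      exact mul_inv_eq_iff_eq_mul.1 htk
    · exact absurd (e ▸ hBt) (hr b hb)
    · exact absurd (e ▸ hBt) (hr _ hzr)
  · rcases ha₀ with h | h
    · exact Or.inl fun a ha => (F.B_congr (by rw [hs₀]; decide) (hs₀.trans ha.symm)).1
        (F.B_of_conj (hpB a₀ h) (isConj_iff.2 ⟨g, hg₀⟩))
    · exact Or.inr ⟨a₀, s₀, h, hs₀, hg₀, fun hB => hr a₀ h
        (F.B_of_conj hB (isConj_iff.2 ⟨g, hg₀⟩).symm)⟩

theorem exists_fused : ∃ F' : SF S, F'.z = F.z ∧ F'.Fused := by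
  obtain ⟨a, ha, hBa⟩ := F.B_p_or_r hna htwo
  rcases ha with h | h
  · exact ⟨F, rfl, F.fused_of_p hna htwo h hBa⟩
  · refine ⟨F.twPR, F.z_twPR, F.twPR.fused_of_p hna htwo (p := swapPR a) ?_ ?_⟩
    · rw [(swapPR_spec a (mem_els a)).2, h]; rfl
    · show IsConj F.twPR.z (F.φ (swapPR (swapPR a)))
      rw [F.z_twPR, (swapPR_spec a (mem_els a)).1]
      exact hBa

end SF

end Cfsg.Agent.TwelveType
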