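import Cfsg.Agent.Lib.SymThirtyTwo.Fuse

/-
The Sylow 2-subgroup of the Mathieu group of degree twelve as the part of the model of the
centraliser without the element of order three (helper21).

* `El`, `sm` : the elements and the multiplication
* `Lab`, `lab` : the seven classes of involutions
* `swapPR`, `swap45` : two automorphisms
-/

set_option autoImplicit false
set_option synthInstance.maxSize 4096

namespace Cfsg.Agent.TwelveType

open Cfsg.Agent.SymThirtyTwo

/-- Elements of the Sylow subgroup. -/
abbrev El : Type := QE × Bool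

def sm (a b : El) : El := (qmul a.1 (tauPow false a.2 b.1), a.2 ^^ b.2)

def oneE : El := (sgn false, false)

def zE : El := (sgn true, false)

def els : List El := qs.flatMap fun q => bools.map fun b => (q, b)

theorem mem_els (a : El) : a ∈ els := by
  revert a; decide +kernel

theorem els_facts : els.Nodup ∧ els.length = 64 := by decide +kernel

def einv (a : El) : El :=
  (els.find? fun b => sm a b == oneE).getD oneE

theorem einv_spec : ∀ a ∈ els, sm a (einv a) = oneE ∧ sm (einv a) a = oneE := by decide +kernel

/-- The classes of involutions, and a label for the other elements. -/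
inductive Lab | none | z | one | p | r | four | five | six
  deriving DecidableEq, Repr

def isI (a : El) : Bool := sm a a == oneE && a != oneE

def lab (a : El) : Lab :=
  if !isI a then .none
  else if a.2 then .six
  else
    let v := a.1.2.1
    let w := a.1.2.2
    if v == (false, false) then .z
    else if v == (true, false) && w == (true, false) then .one
    else if v == w then .p
    else if w == fl v then .r
    else if w == (true, false) then .four
    else .five

def cjE (g a : El) : El := sm (sm g a) (einv g)

def cenE (a : El) : List El := els.filter fun b => sm a b == sm b a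

/-- `q ∈ Q`. -/
def inQE (a : El) : Bool := !a.2

/-- The centraliser of the second class. -/
def inP1 (a : El) : Bool := a.1.2.1.2 == a.1.2.2.2

/-- A maximal subgroup missing the classes `p`, `r`, `five`, `six`. -/
def inM (a : El) : Bool := a.1.2.2.2 == a.2

/-- The elementary abelian subgroup of order eight. -/
def inP0 (a : El) : Bool := !a.2 && a.1.2.1 == a.1.2.2

/-- The automorphism exchanging the classes `p` and `r`. -/
def swapPR (a : El) : El := ((a.1.1 ^^ nz a.1.2.2, a.1.2.1, fl a.1.2.2), a.2)

/-- The automorphism exchanging the classes `four` and `five`. -/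
def swap45 (a : El) : El := ((a.1.1, a.1.2.2, a.1.2.1), a.2)

def labPR : Lab → Lab
  | .p => .r
  | .r => .p
  | l => l

def lab45 : Lab → Lab
  | .four => .five
  | .five => .four
  | l => l

theorem swapPR_mul : ∀ a ∈ els, ∀ b ∈ els, swapPR (sm a b) = sm (swapPR a) (swapPR b) := by
  decide +kernel

theorem swapPR_spec : ∀ a ∈ els, swapPR (swapPR a) = a ∧ lab (swapPR a) = labPR (lab a) := by
  decide +kernel

theorem swap45_mul : ∀ a ∈ els, ∀ b ∈ els, swap45 (sm a b) = sm (swap45 a) (swap45 b) := by
  decide +kernel

theorem swap45_spec : ∀ a ∈ els, swap45 (swap45 a) = a ∧ lab (swap45 a) = lab45 (lab a) := by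
  decide +kernel

theorem z_central : ∀ a ∈ els, sm zE a = sm a zE := by decide +kernel

theorem lab_z : lab zE = .z ∧ ∀ a ∈ els, lab a = .z → a = zE := by decide +kernel

theorem lab_none : ∀ a ∈ els, lab a = .none ↔ isI a = false := by decide +kernel

/-- Involutions with the same label are conjugate in the Sylow subgroup. -/
theorem lab_conj : ∀ a ∈ els, ∀ b ∈ els, lab a ≠ .none → lab a = lab b →
    ∃ g ∈ els, cjE g a = b := by decide +kernel

theorem cen_card : ∀ a ∈ els, lab a ≠ .none → (cenE a).length =
    match lab a with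
    | .z => 64
    | .one => 32
    | .six => 8
    | _ => 16 := by decide +kernel

/-- `z` is a square in the centraliser of an involution outside the class `six`. -/
theorem z_sq : ∀ a ∈ els, lab a ≠ .none → lab a ≠ .six →
    ∃ w ∈ els, sm a w = sm w a ∧ sm w w = zE := by decide +kernel

/-- An involution that is a square is `z` or in the class `one`. -/
theorem sq_invol : ∀ w ∈ els, isI (sm w w) → sm w w = zE ∨ lab (sm w w) = .one := by
  decide +kernel

theorem six_cen : ∀ a ∈ els, lab a = .six →
    (∀ b ∈ cenE a, b = oneE ∨ lab b = .z ∨ lab b = .one ∨ lab b = .six) ∧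
    ∃ b ∈ cenE a, lab b = .one := by decide +kernel

theorem one_cen : ∀ a ∈ els, lab a = .one →
    (∀ b ∈ els, sm a b = sm b a ↔ inP1 b = true) ∧ lab (sm zE a) = .one ∧
    ∀ b ∈ els, lab b = .one → b = a ∨ b = sm zE a := by decide +kernel

theorem P1_invol : ∀ a ∈ els, inP1 a → lab a = .none ∨ lab a = .z ∨ lab a = .one ∨ lab a = .p ∨
    lab a = .r ∨ lab a = .six := by decide +kernel

theorem p_r_sq : ∀ a ∈ els, (lab a = .p ∨ lab a = .r) → ∀ b ∈ els, (lab b = .p ∨ lab b = .r) →
    sm (sm a b) (sm a b) = oneE ∨ (lab a ≠ lab b ∧ sm (sm a b) (sm a b) = zE) := by decide +kernel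

theorem p_r_ne : ∀ a ∈ els, lab a = .p → ∀ b ∈ els, lab b = .r →
    sm (sm a b) (sm a b) = zE := by decide +kernel

/-- Commuting involutions of `P1` outside the classes `z`, `one` have the same label. -/
theorem P1_comm : ∀ a ∈ els, inP1 a → (lab a = .p ∨ lab a = .r ∨ lab a = .six) →
    ∀ b ∈ els, inP1 b → (lab b = .p ∨ lab b = .r ∨ lab b = .six) →
    sm a b = sm b a → lab a = lab b := by decide +kernel

/-- In the centraliser of an element of the class `four`. -/
theorem four_cen : ∀ y ∈ els, lab y = .four →
    (∃ p ∈ cenE y, lab p = .p ∧ ∃ q ∈ cenE y, lab q = .five ∧ sm p q = sm q p) ∧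
    (∃ e ∈ cenE y, lab e = .r ∧ ∃ q ∈ cenE y, lab q = .five ∧ sm e q = sm q e) ∧
    (∃ p ∈ cenE y, lab p = .p ∧ ∃ e ∈ cenE y, lab e = .r) ∧
    (∀ b ∈ cenE y, lab b ≠ .one) ∧ lab (sm zE y) = .four := by decide +kernel

theorem r_cen : ∀ r ∈ els, lab r = .r →
    (∃ v ∈ cenE r, lab v = .one) ∧
    (∀ a ∈ cenE r, lab a = .z ∨ lab a = .one ∨ lab a ≠ .p) ∧
    (∀ a ∈ cenE r, (∀ b ∈ cenE r, sm a b = sm b a) →
      a = oneE ∨ a = zE ∨ a = r ∨ a = sm zE r) ∧ lab (sm zE r) = .r ∧
    ∃ w ∈ cenE r, lab w = .four ∨ lab w = .five := by decide +kernel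

theorem M_mul : ∀ a ∈ els, ∀ b ∈ els, inM (sm a b) = (inM a == inM b) := by decide +kernel

theorem M_lab : ∀ a ∈ els, (lab a = .p ∨ lab a = .r ∨ lab a = .five ∨ lab a = .six → inM a = false) ∧
    (lab a = .one → inM a = true) := by decide +kernel

theorem P1_mul : ∀ a ∈ els, ∀ b ∈ els, inP1 (sm a b) = (inP1 a == inP1 b) := by decide +kernel

theorem P1_lab : ∀ a ∈ els, lab a = .four ∨ lab a = .five → inP1 a = false := by decide +kernel

end Cfsg.Agent.TwelveType
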