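import Cfsg.Agent.Lib.Signalizer.Core
import Cfsg.Agent.Lib.Signalizer.GraphTrivial
import Cfsg.Agent.Lib.Signalizer.SSFT.Main
import Cfsg.Agent.Lib.Involution.StronglyEmbedded
import Cfsg.Agent.Lib.OddOrderTheorem.Basic
import Cfsg.Agent.Lib.Cores.Basic
import Mathlib.GroupTheory.Transfer

/-
An elementary abelian Sylow 2-subgroup in which only central automorphisms fix a point, and two
classes of involutions (helper81 for helper21).

* `exists_mul_core` : the centraliser of a point is core times Sylow subgroup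
* `two_class` : the group is core times normaliser of the Sylow subgroup
-/

set_option autoImplicit false
set_option linter.unusedSectionVars false

open Subgroup
open scoped Pointwise

namespace Cfsg.Agent.TwelveType

variable {X : Type*} [Group X] [Finite X] {P : Sylow 2 X}
  (hP : Cfsg.IsElementaryAbelian 2 (P : Subgroup X))
  (hN : ∀ g ∈ normalizer (P : Set X), ∀ x ∈ P, x ≠ 1 → Commute g x → ∀ y ∈ P, Commute g y)

include hP hN

/-- Burnside: the centraliser of a point is a normal odd part times the Sylow subgroup. -/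
theorem exists_mul_core {a : X} (ha : a ∈ P) (ha1 : a ≠ 1) :
    (∀ c, Commute c a → ∃ k ∈ Cfsg.centralizerPPrimeCore 2 a, ∃ p ∈ P, c = k * p) ∧
      ∀ c, Commute c a → Odd (orderOf c) → c ∈ Cfsg.centralizerPPrimeCore 2 a := by
  have : Fact (Nat.Prime 2) := ⟨Nat.prime_two⟩
  set C := centralizer ({a} : Set X)
  have hPC : (P : Subgroup X) ≤ C := fun p hp =>
    mem_centralizer_singleton_iff.2 (Signalizer.commute_of_isMulCommutative hP.1 hp ha)
  set Q : Sylow 2 C := P.subtype hPC
  have hQ : ∀ c : C, c ∈ (Q : Subgroup C) ↔ (c : X) ∈ P := fun c => Iff.rfl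
  have hle : normalizer ((Q : Subgroup C) : Set C) ≤ centralizer ((Q : Subgroup C) : Set C) := by
    intro g hg
    have hgP : (g : X) ∈ normalizer (P : Set X) := by
      refine Signalizer.le_normalizer_of_conj_mem (A := zpowers (g : X)) (fun u hu p hp => ?_) (mem_zpowers _)
      obtain ⟨i, rfl⟩ := hu
      exact (hQ _).1 ((mem_normalizer_iff.1 (zpow_mem hg i) ⟨p, hPC hp⟩).1 hp)
    refine mem_centralizer_iff.2 fun y hy => Subtype.ext ?_
    exact ((hN _ hgP a ha ha1 (mem_centralizer_singleton_iff.1 g.2) _ ((hQ y).1 hy)).eq).symm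
  have hcomp := MonoidHom.ker_transferSylow_isComplement' Q hle
  set f := MonoidHom.transferSylow Q hle
  set K := f.ker
  have hKodd : (Nat.card K).Coprime 2 := by
    rw [← hcomp.index_eq_card]
    exact (Nat.prime_two.coprime_iff_not_dvd.2 Q.not_dvd_index).symm
  have hKle : ∀ k ∈ K, (k : X) ∈ Cfsg.centralizerPPrimeCore 2 a := fun k hk =>
    mem_map_of_mem _ (Cores.le_pPrimeCore (MonoidHom.normal_ker f) hKodd hk)
  refine ⟨fun c hc => ?_, fun c hc hodd => ?_⟩
  · obtain ⟨⟨k, p⟩, hkp : (k : C) * p = ⟨c, mem_centralizer_singleton_iff.2 hc⟩⟩ :=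
      hcomp.2 ⟨c, mem_centralizer_singleton_iff.2 hc⟩
    exact ⟨_, hKle k k.2, _, (hQ p).1 p.2, congrArg Subtype.val hkp.symm⟩
  · refine hKle ⟨c, mem_centralizer_singleton_iff.2 hc⟩ (MonoidHom.mem_ker.2 ?_)
    obtain ⟨n, hn⟩ := Q.isPGroup' (f ⟨c, mem_centralizer_singleton_iff.2 hc⟩)
    have h1 := orderOf_dvd_of_pow_eq_one hn
    have h2 : orderOf (f ⟨c, mem_centralizer_singleton_iff.2 hc⟩) ∣ orderOf c :=
      (orderOf_map_dvd f _).trans (dvd_of_eq (Subgroup.orderOf_mk _ _))
    exact orderOf_eq_one_iff.1 (Nat.eq_one_of_dvd_coprimes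
      (Nat.Coprime.pow_left n (Nat.coprime_two_left.2 hodd)) h1 h2)

/-- **Two classes of involutions: the group is core times normaliser of the Sylow subgroup.** -/
theorem two_class (h8 : 8 ≤ Nat.card (P : Subgroup X))
    (htwo : ∃ x ∈ P, ∃ y ∈ P, x ≠ 1 ∧ y ≠ 1 ∧ ¬ IsConj x y) (g : X) :
    ∃ o ∈ Cfsg.oddCore X, o * g ∈ normalizer (P : Set X) := by
  classical
  have : Fact (Nat.Prime 2) := ⟨Nat.prime_two⟩
  have hord : ∀ {a : X}, a ∈ P → a ≠ 1 → orderOf a = 2 := fun ha ha1 => orderOf_eq_prime (hP.2 _ ha) ha1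
  -- the cores form a signalizer functor
  have hfun : Cfsg.IsSolvableSignalizerFunctor 2 (P : Subgroup X) (fun a => Cfsg.centralizerPPrimeCore 2 a) := by
    refine ⟨⟨fun a _ _ => Signalizer.core_le_centralizer a, fun a _ _ => Signalizer.not_dvd_card_core a,
      fun a ha _ b hb _ hx => Signalizer.conj_mem (Signalizer.invariant_core hP.1 ha) hb hx,
      fun a _ _ b hb hb1 x hx => (exists_mul_core hP hN hb hb1).2 x (mem_centralizer_singleton_iff.1 hx.2) ?_⟩,
      fun a _ _ => OddOrderTheorem.solvable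
        (Nat.odd_iff.2 (Nat.two_dvd_ne_zero.1 (Signalizer.not_dvd_card_core a)))⟩
    exact Nat.odd_iff.2 (Nat.two_dvd_ne_zero.1 fun h2 =>
      Signalizer.not_dvd_card_core a (h2.trans (Subgroup.orderOf_dvd_natCard _ hx.1)))
  obtain ⟨-, hWodd, hWfix⟩ := Signalizer.solvable_signalizer_functor hP (by norm_num; exact h8) hfun
  set W := ⨆ a : {a : X // a ∈ (P : Subgroup X) ∧ a ≠ 1}, Cfsg.centralizerPPrimeCore 2 (a : X) with hW
  have hle : ∀ a ∈ P, a ≠ 1 → Cfsg.centralizerPPrimeCore 2 a ≤ W := fun a ha ha1 =>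
    le_iSup (fun a : {a : X // a ∈ (P : Subgroup X) ∧ a ≠ 1} => Cfsg.centralizerPPrimeCore 2 (a : X)) ⟨a, ha, ha1⟩
  set H := normalizer (W : Set X)
  have hPH : (P : Subgroup X) ≤ H :=
    Signalizer.le_normalizer_iSup fun b => Signalizer.invariant_core hP.1 b.2.1
  have hCH : ∀ a ∈ P, a ≠ 1 → ∀ c, Commute c a → c ∈ H := fun a ha ha1 c hc => by
    obtain ⟨k, hk, p, hp, rfl⟩ := (exists_mul_core hP hN ha ha1).1 c hc
    exact mul_mem (le_normalizer (hle a ha ha1 hk)) (hPH hp)
  have hNH : normalizer (P : Set X) ≤ H := by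
    refine Signalizer.le_normalizer_of_conj_mem fun n hn x hx => ?_
    have h1 : W ≤ W.comap (MulAut.conj n).toMonoidHom := iSup_le fun b => by
      rw [← map_le_iff_le_comap, Signalizer.map_conj_centralizerPPrimeCore]
      exact hle _ ((mem_normalizer_iff.1 hn b).1 b.2.1) fun e => b.2.2 (conj_eq_one_iff.1 e)
    exact h1 hx
  -- fusion in an abelian Sylow subgroup
  have hburn : ∀ a ∈ P, a ≠ 1 → ∀ y, y * a * y⁻¹ ∈ P → y ∈ H := by
    intro a ha ha1 y hb
    set b := y * a * y⁻¹ with hbd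
    have hb1 : b ≠ 1 := fun e => ha1 (conj_eq_one_iff.1 e)
    set C := centralizer ({b} : Set X)
    have hPC : (P : Subgroup X) ≤ C := fun p hp =>
      mem_centralizer_singleton_iff.2 (Signalizer.commute_of_isMulCommutative hP.1 hp hb)
    have hTC : ((y • P : Sylow 2 X) : Subgroup X) ≤ C := by
      rintro _ ⟨p, hp, rfl⟩
      exact mem_centralizer_singleton_iff.2
        ((show Commute p a from Signalizer.commute_of_isMulCommutative hP.1 hp ha).map (MulAut.conj y).toMonoidHom).eq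
    obtain ⟨c, hc⟩ := MulAction.exists_smul_eq C ((y • P).subtype hTC) (P.subtype hPC)
    have hcH : (c : X) ∈ H := hCH b hb hb1 _ (mem_centralizer_singleton_iff.1 c.2)
    have hn : (c : X) * y ∈ normalizer (P : Set X) := by
      refine Sylow.smul_eq_iff_mem_normalizer.1 ?_
      rw [mul_smul]
      refine Sylow.subtype_injective (hP := ?_) (hQ := hPC) ?_
      · rw [Sylow.coe_subgroup_smul]
        rintro _ ⟨p, hp, rfl⟩
        exact C.mul_mem (C.mul_mem c.2 (hTC hp)) (C.inv_mem c.2)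
      · rw [← hc, Sylow.smul_subtype hTC]; rfl
    have := H.mul_mem (H.inv_mem hcH) (hNH hn)
    rwa [inv_mul_cancel_left] at this
  -- `H` is everything
  have hHtop : H = ⊤ := by
    by_contra hne
    have heven : Even (Nat.card H) := even_iff_two_dvd.2 (by
      have h2 : 2 ∣ Nat.card (P : Subgroup X) := by
        obtain ⟨k, hk⟩ := IsPGroup.iff_card.1 P.isPGroup'
        rw [hk] at h8 ⊢
        rcases k with _ | k
        · norm_num at h8
        · exact dvd_pow_self 2 (Nat.succ_ne_zero k)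
      exact h2.trans (card_dvd_of_le hPH))
    have hmove : ∀ t ∈ H, orderOf t = 2 → ∃ h ∈ H, h * t * h⁻¹ ∈ P := by
      intro t ht ht2
      have hz : IsPGroup 2 ((zpowers t).subgroupOf H) :=
        (IsPGroup.of_card (n := 1) (by rw [Nat.card_zpowers, ht2, pow_one])).comap_subtype
      obtain ⟨R, hR⟩ := hz.exists_le_sylow
      obtain ⟨h, hh⟩ := MulAction.exists_smul_eq H R (P.subtype hPH)
      refine ⟨h, h.2, ?_⟩
      have : h * ⟨t, ht⟩ * h⁻¹ ∈ ((P.subtype hPH : Sylow 2 H) : Subgroup H) := by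
        rw [← hh, Sylow.coe_subgroup_smul]
        exact ⟨_, hR (mem_subgroupOf.2 (mem_zpowers t)), rfl⟩
      exact this
    have hse : Cfsg.IsStronglyEmbedded H := Involution.isStronglyEmbedded_iff_forall.2
      ⟨hne, heven, fun y t ht htH hyt => by
        obtain ⟨h, hh, ha⟩ := hmove t htH ht
        obtain ⟨h', hh', hb⟩ := hmove _ hyt (by rw [Involution.orderOf_conj, ht])
        have ha1 : h * t * h⁻¹ ≠ 1 := Involution.ne_one (by rw [Involution.orderOf_conj, ht])
        have := hburn _ ha ha1 (h' * y * h⁻¹) (by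
          convert hb using 1
          group)
        have := H.mul_mem (H.mul_mem (H.inv_mem hh') this) hh
        simpa [mul_assoc] using this⟩
    obtain ⟨x, hx, y, hy, hx1, hy1, hxy⟩ := htwo
    exact hxy (Involution.isConj_involutions hse (hord hx hx1) (hord hy hy1))
  have hWO : W ≤ Cfsg.oddCore X :=
    Cores.le_pPrimeCore (normalizer_eq_top_iff.1 hHtop) (Nat.prime_two.coprime_iff_not_dvd.2 hWodd).symm
  have := Cores.pPrimeCore_normal 2 X
  set M := Cfsg.oddCore X ⊔ (P : Subgroup X)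
  have hPM : (P : Subgroup X) ≤ M := le_sup_right
  have hCM : ∀ a ∈ P, a ≠ 1 → ∀ c, Commute c a → c ∈ M := fun a ha ha1 c hc => by
    obtain ⟨k, hk, p, hp, rfl⟩ := (exists_mul_core hP hN ha ha1).1 c hc
    exact mul_mem (mem_sup_left (hWO (hle a ha ha1 hk))) (hPM hp)
  -- all involutions lie in `M`
  have hinv : ∀ u : X, orderOf u = 2 → u ∈ M := by
    intro u hu
    obtain ⟨x, hx, hx1, hux⟩ : ∃ x ∈ P, x ≠ 1 ∧ ¬ IsConj x u := by
      obtain ⟨x, hx, y, hy, hx1, hy1, hxy⟩ := htwo
      by_cases h : IsConj x u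
      · exact ⟨y, hy, hy1, fun h' => hxy (h.trans h'.symm)⟩
      · exact ⟨x, hx, hx1, h⟩
    obtain ⟨t, ht, htx, htu, -⟩ := Involution.exists_commuting_involution (hord hx hx1) hu
      (Involution.even_of_not_isConj (hord hx hx1) hu hux)
    set C := centralizer ({x} : Set X)
    have hPC : (P : Subgroup X) ≤ C := fun p hp =>
      mem_centralizer_singleton_iff.2 (Signalizer.commute_of_isMulCommutative hP.1 hp hx)
    have hz : IsPGroup 2 ((zpowers t).subgroupOf C) :=
      (IsPGroup.of_card (n := 1) (by rw [Nat.card_zpowers, ht, pow_one])).comap_subtype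
    obtain ⟨R, hR⟩ := hz.exists_le_sylow
    obtain ⟨c, hc⟩ := MulAction.exists_smul_eq C R (P.subtype hPC)
    have ha : c * ⟨t, mem_centralizer_singleton_iff.2 htx⟩ * c⁻¹ ∈
        ((P.subtype hPC : Sylow 2 C) : Subgroup C) := by
      rw [← hc, Sylow.coe_subgroup_smul]
      exact ⟨_, hR (mem_subgroupOf.2 (mem_zpowers t)), rfl⟩
    have hcM : (c : X) ∈ M := hCM x hx hx1 _ (mem_centralizer_singleton_iff.1 c.2)
    have h := hCM ((c : X) * t * (c : X)⁻¹) ha (Involution.ne_one (by rw [Involution.orderOf_conj, ht]))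
      ((c : X) * u * (c : X)⁻¹) (htu.symm.map (MulAut.conj (c : X)).toMonoidHom)
    have := M.mul_mem (M.mul_mem (M.inv_mem hcM) h) hcM
    simpa [mul_assoc] using this
  have hgM : ((g • P : Sylow 2 X) : Subgroup X) ≤ M := by
    rintro _ ⟨p, hp, rfl⟩
    by_cases hp1 : p = 1
    · simp [hp1]
    · exact hinv _ ((Involution.orderOf_conj g p).trans (hord hp hp1))
  obtain ⟨m, hm⟩ := MulAction.exists_smul_eq M ((g • P).subtype hgM) (P.subtype hPM)
  have hmg : (m : X) * g ∈ normalizer (P : Set X) := by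
    refine Sylow.smul_eq_iff_mem_normalizer.1 ?_
    rw [mul_smul]
    refine Sylow.subtype_injective (hP := ?_) (hQ := hPM) ?_
    · rw [Sylow.coe_subgroup_smul]
      rintro _ ⟨p, hp, rfl⟩
      exact M.mul_mem (M.mul_mem m.2 (hgM hp)) (M.inv_mem m.2)
    · rw [← hm, Sylow.smul_subtype hgM]; rfl
  obtain ⟨o, ho, p, hp, e⟩ := mem_sup_of_normal_left.1 m.2
  refine ⟨p⁻¹ * o * p⁻¹⁻¹, (Cores.pPrimeCore_normal 2 X).conj_mem o ho p⁻¹, ?_⟩
  have := mul_mem (inv_mem (le_normalizer hp)) hmg
  rw [← e] at this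
  simpa [mul_assoc] using this

end Cfsg.Agent.TwelveType
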